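import Cfsg.Prelude.Def_LieTypeDatum

/-!
Counting the classes of a normal subgroup inside a class of a larger group, and transport by conjugation.
-/

set_option autoImplicit false

namespace Cfsg.Agent.AutPSL

variable {X : Type*} [Group X]

theorem mem_centralizer_singleton {x h : X} : h ∈ Subgroup.centralizer ({x} : Set X) ↔ h * x * h⁻¹ = x := by
  rw [Subgroup.mem_centralizer_singleton_iff, mul_inv_eq_iff_eq_mul]

/-- The `H`-class of `x` splits into `[H : K·C_H(x)]` classes of a normal subgroup `K ≤ H`. -/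
theorem splitClassCount_eq (H K : Subgroup X) [K.Normal] (hKH : K ≤ H) (x : X) :
    Cfsg.splitClassCount H K x = (K ⊔ (H ⊓ Subgroup.centralizer {x})).relIndex H := by
  set N := (K ⊔ (H ⊓ Subgroup.centralizer {x})).subgroupOf H
  rw [Cfsg.splitClassCount, Subgroup.relIndex]
  show Nat.card _ = N.index
  rw [Subgroup.index]
  let f : H → Quot (fun y z : {y : X // Cfsg.IsConjUnder H x y} => Cfsg.IsConjUnder K y.1 z.1) :=
    fun h => Quot.mk _ ⟨(h : X) * x * (h : X)⁻¹, h, h.2, rfl⟩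
  have hf : ∀ a b : H, a⁻¹ * b ∈ N → f a = f b := by
    intro a b hab
    have h1 : (a : X)⁻¹ * b ∈ K ⊔ (H ⊓ Subgroup.centralizer {x}) := hab
    rw [Subgroup.mem_sup_of_normal_left] at h1
    obtain ⟨k, hk, c, hc, he⟩ := h1
    have hb : (b : X) = ((a : X) * k * (a : X)⁻¹) * a * c := by
      rw [inv_mul_cancel_right, mul_assoc, he, mul_inv_cancel_left]
    refine Quot.sound ⟨(a : X) * k * (a : X)⁻¹, Subgroup.Normal.conj_mem inferInstance k hk _, ?_⟩
    show (b : X) * x * (b : X)⁻¹ = _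
    have hcx := mem_centralizer_singleton.1 hc.2
    rw [hb, show ((a : X) * k * (a : X)⁻¹ * a * c) * x * ((a : X) * k * (a : X)⁻¹ * a * c)⁻¹ =
      ((a : X) * k * (a : X)⁻¹ * a) * (c * x * c⁻¹) * ((a : X) * k * (a : X)⁻¹ * a)⁻¹ by group, hcx]
    group
  have hw : ∀ (y : {y : X // Cfsg.IsConjUnder H x y}), ∃ h : H, y.1 = (h : X) * x * (h : X)⁻¹ := by
    rintro ⟨y, h, hh, rfl⟩
    exact ⟨⟨h, hh⟩, rfl⟩
  choose g hg using hw
  have hkey : ∀ (a b : H) (k : X), k ∈ K → (b : X) * x * (b : X)⁻¹ = k * ((a : X) * x * (a : X)⁻¹) * k⁻¹ →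
      a⁻¹ * b ∈ N := by
    intro a b k hk e
    have hc : (a : X)⁻¹ * k⁻¹ * b ∈ H ⊓ Subgroup.centralizer ({x} : Set X) := by
      refine ⟨H.mul_mem (H.mul_mem (H.inv_mem a.2) (H.inv_mem (hKH hk))) b.2, mem_centralizer_singleton.2 ?_⟩
      rw [show (a : X)⁻¹ * k⁻¹ * b * x * ((a : X)⁻¹ * k⁻¹ * b)⁻¹ =
        (a : X)⁻¹ * k⁻¹ * ((b : X) * x * (b : X)⁻¹) * ((a : X)⁻¹ * k⁻¹)⁻¹ by group, e]
      group
    show (a : X)⁻¹ * b ∈ K ⊔ (H ⊓ Subgroup.centralizer {x})
    rw [show (a : X)⁻¹ * b = ((a : X)⁻¹ * k * a) * ((a : X)⁻¹ * k⁻¹ * b) by group]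
    refine Subgroup.mul_mem _ (Subgroup.mem_sup_left ?_) (Subgroup.mem_sup_right hc)
    simpa using Subgroup.Normal.conj_mem inferInstance k hk (a : X)⁻¹
  refine Nat.card_congr
    { toFun := Quot.lift (fun y => (QuotientGroup.mk (g y) : H ⧸ N)) ?_
      invFun := Quotient.lift f (fun a b hab => hf a b (QuotientGroup.leftRel_apply.1 hab))
      left_inv := ?_
      right_inv := ?_ }
  · rintro y z ⟨k, hk, e⟩
    rw [hg y, hg z] at e
    exact QuotientGroup.eq.2 (hkey _ _ k hk e)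
  · intro q
    induction q using Quot.ind with
    | mk y => exact congrArg (Quot.mk _) (Subtype.ext (hg y).symm)
  · intro q
    induction q using Quotient.ind with
    | _ a =>
      refine QuotientGroup.eq.2 (hkey _ _ 1 K.one_mem ?_)
      rw [one_mul, inv_one, mul_one]
      exact hg ⟨(a : X) * x * (a : X)⁻¹, a, a.2, rfl⟩

/-- Conjugation by `a` as an automorphism. -/
theorem map_conj_of_normal (H : Subgroup X) [hn : H.Normal] (a : X) : H.map (MulAut.conj a).toMonoidHom = H := by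
  ext y
  rw [Subgroup.mem_map_equiv, MulAut.conj_symm_apply]
  exact ⟨fun h => by simpa [mul_assoc] using hn.conj_mem _ h a, fun h => by simpa using hn.conj_mem _ h a⁻¹⟩

theorem map_conj_inf_centralizer (H : Subgroup X) [hn : H.Normal] (a x : X) :
    (H ⊓ Subgroup.centralizer {x}).map (MulAut.conj a).toMonoidHom =
      H ⊓ Subgroup.centralizer {a * x * a⁻¹} := by
  ext y
  rw [Subgroup.mem_map_equiv, MulAut.conj_symm_apply, Subgroup.mem_inf, Subgroup.mem_inf,
    mem_centralizer_singleton, mem_centralizer_singleton]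
  refine and_congr ⟨fun h => ?_, fun h => ?_⟩ ⟨fun h => ?_, fun h => ?_⟩
  · simpa [mul_assoc] using hn.conj_mem _ h a
  · simpa [mul_assoc] using hn.conj_mem _ h a⁻¹
  · calc y * (a * x * a⁻¹) * y⁻¹ = a * ((a⁻¹ * y * a) * x * (a⁻¹ * y * a)⁻¹) * a⁻¹ := by group
      _ = a * x * a⁻¹ := by rw [h]
  · calc (a⁻¹ * y * a) * x * (a⁻¹ * y * a)⁻¹ = a⁻¹ * (y * (a * x * a⁻¹) * y⁻¹) * a := by group
      _ = x := by rw [h]; group

/-- Conjugation transports centralisers inside normal subgroups. -/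
noncomputable def centralizerEquiv (H : Subgroup X) [H.Normal] (a x : X) :
    ↥(H ⊓ Subgroup.centralizer {x}) ≃* ↥(H ⊓ Subgroup.centralizer {a * x * a⁻¹}) :=
  ((H ⊓ Subgroup.centralizer {x}).equivMapOfInjective _ (MulAut.conj a).injective).trans
    (MulEquiv.subgroupCongr (map_conj_inf_centralizer H a x))

/-- Transport of the split count by conjugation. -/
theorem splitClassCount_conj (H K : Subgroup X) [H.Normal] [K.Normal] (hKH : K ≤ H) (a x : X) :
    Cfsg.splitClassCount H K (a * x * a⁻¹) = Cfsg.splitClassCount H K x := by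
  rw [splitClassCount_eq H K hKH, splitClassCount_eq H K hKH]
  have h := Subgroup.relIndex_map_map_of_injective (K ⊔ (H ⊓ Subgroup.centralizer {x})) H
    (f := (MulAut.conj a).toMonoidHom) (MulAut.conj a).injective
  rw [map_conj_of_normal H, Subgroup.map_sup, map_conj_of_normal K, map_conj_inf_centralizer] at h
  exact h

end Cfsg.Agent.AutPSL
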