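import Mathlib
import Cfsg.Prelude.Def_LieTypeDatum

/-!
Automorphisms of `PSL_n` induced by `GL_n`, by field automorphisms and by inverse-transpose.
-/

set_option autoImplicit false

open Matrix
open scoped MatrixGroups

namespace Cfsg.Agent.AutPSL

variable {n : ℕ} {F : Type*} [Field F]

local notation "SLn" => Matrix.SpecialLinearGroup (Fin n) F
local notation "PSLn" => Matrix.ProjectiveSpecialLinearGroup (Fin n) F

theorem map_center_eq {G : Type*} [Group G] (e : MulAut G) :
    (Subgroup.center G).map (e : G ≃* G).toMonoidHom = Subgroup.center G := by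
  ext x
  constructor
  · rintro ⟨y, hy, rfl⟩
    refine Subgroup.mem_center_iff.2 fun z => ?_
    obtain ⟨w, rfl⟩ := e.surjective z
    simp only [MulEquiv.coe_toMonoidHom, ← map_mul, (Subgroup.mem_center_iff.1 hy w)]
  · intro hx
    refine ⟨e.symm x, Subgroup.mem_center_iff.2 fun z => e.injective ?_, e.apply_symm_apply x⟩
    rw [map_mul, map_mul, e.apply_symm_apply]
    exact Subgroup.mem_center_iff.1 hx _

/-- Automorphisms of `SL` act on `PSL`. -/
def autQ : MulAut SLn →* MulAut PSLn where
  toFun e := QuotientGroup.congr _ _ e (map_center_eq e)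
  map_one' := MulEquiv.ext fun x => by
    induction x using QuotientGroup.induction_on with
    | _ s => rfl
  map_mul' e f := MulEquiv.ext fun x => by
    induction x using QuotientGroup.induction_on with
    | _ s => rfl

theorem autQ_mk (e : MulAut SLn) (s : SLn) :
    autQ e (QuotientGroup.mk s) = QuotientGroup.mk (e s) := rfl

/-- Conjugation of a matrix of determinant one. -/
def cSL (g : GL (Fin n) F) (s : SLn) : SLn :=
  ⟨(g : Matrix (Fin n) (Fin n) F) * s.1 * ((g⁻¹ : GL (Fin n) F) : Matrix (Fin n) (Fin n) F), by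
    rw [Matrix.det_units_conj]; exact s.2⟩

theorem cSL_coe (g : GL (Fin n) F) (s : SLn) :
    (cSL g s).1 = (g : Matrix (Fin n) (Fin n) F) * s.1 * ((g⁻¹ : GL (Fin n) F) : Matrix (Fin n) (Fin n) F) := rfl

theorem cSL_mul (g h : GL (Fin n) F) (s : SLn) : cSL (g * h) s = cSL g (cSL h s) :=
  Subtype.ext (by simp [cSL_coe, Matrix.mul_assoc])

theorem cSL_one (s : SLn) : cSL 1 s = s := Subtype.ext (by simp [cSL_coe])

theorem cSL_map_mul (g : GL (Fin n) F) (s t : SLn) : cSL g (s * t) = cSL g s * cSL g t :=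
  Subtype.ext (by simp [cSL_coe, Matrix.SpecialLinearGroup.coe_mul, Matrix.mul_assoc])

/-- Conjugation of `SL` by an invertible matrix. -/
def conjSL : GL (Fin n) F →* MulAut SLn where
  toFun g :=
    { toFun := cSL g
      invFun := cSL g⁻¹
      left_inv := fun s => by rw [← cSL_mul, inv_mul_cancel, cSL_one]
      right_inv := fun s => by rw [← cSL_mul, mul_inv_cancel, cSL_one]
      map_mul' := cSL_map_mul g }
  map_one' := MulEquiv.ext cSL_one
  map_mul' g h := MulEquiv.ext (cSL_mul g h)

theorem conjSL_coe (g : GL (Fin n) F) (s : SLn) :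
    (conjSL g s).1 = (g : Matrix (Fin n) (Fin n) F) * s.1 * ((g⁻¹ : GL (Fin n) F) : Matrix (Fin n) (Fin n) F) := rfl

theorem conjSL_toGL (g s : SLn) : conjSL (Matrix.SpecialLinearGroup.toGL g) s = g * s * g⁻¹ := by
  refine Subtype.ext ?_
  rw [conjSL_coe, ← map_inv]
  rfl

/-- A field automorphism applied entrywise. -/
def fieldSL (σ : F ≃+* F) : MulAut SLn :=
  MonoidHom.toMulEquiv (Matrix.SpecialLinearGroup.map σ.toRingHom) (Matrix.SpecialLinearGroup.map σ.symm.toRingHom)
    (by ext s i j; simp)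
    (by ext s i j; simp)

theorem fieldSL_coe (σ : F ≃+* F) (s : SLn) : (fieldSL σ s).1 = s.1.map σ := rfl

/-- Inverse-transpose of a matrix of determinant one. -/
def tI (s : SLn) : SLn := ⟨(s⁻¹ : SLn).1.transpose, by rw [Matrix.det_transpose]; exact (s⁻¹ : SLn).2⟩

theorem tI_coe (s : SLn) : (tI s).1 = (s⁻¹ : SLn).1.transpose := rfl

theorem tI_tI (s : SLn) : tI (tI s) = s := by
  refine Subtype.ext ((congrArg Matrix.transpose (Matrix.SpecialLinearGroup.coe_inv (tI s))).trans ?_)
  rw [tI_coe, ← Matrix.adjugate_transpose, Matrix.transpose_transpose]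
  exact (Matrix.SpecialLinearGroup.coe_inv (s⁻¹ : SLn)).symm.trans (congrArg Subtype.val (inv_inv s))

theorem tI_mul (s t : SLn) : tI (s * t) = tI s * tI t :=
  Subtype.ext <| (congrArg (fun a : SLn => a.1.transpose) (_root_.mul_inv_rev s t)).trans <|
    (congrArg Matrix.transpose (Matrix.SpecialLinearGroup.coe_mul t⁻¹ s⁻¹)).trans (Matrix.transpose_mul _ _)

/-- Inverse-transpose. -/
def invT : MulAut SLn where
  toFun := tI
  invFun := tI
  left_inv := tI_tI
  right_inv := tI_tI
  map_mul' := tI_mul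

theorem invT_coe (s : SLn) : (invT s).1 = (s⁻¹ : SLn).1.transpose := rfl

theorem invT_invT (s : SLn) : invT (invT s) = s := invT.left_inv s

/-- The automorphism of `PSL` induced by an invertible matrix. -/
def conjP : GL (Fin n) F →* MulAut PSLn := autQ.comp conjSL

theorem conjP_mk (g : GL (Fin n) F) (s : SLn) :
    conjP g (QuotientGroup.mk s) = QuotientGroup.mk (conjSL g s) := rfl

/-- The standard field automorphism of `PSL`. -/
def fieldP (σ : F ≃+* F) : MulAut PSLn := autQ (fieldSL σ)

theorem fieldP_mk (σ : F ≃+* F) (s : SLn) :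
    fieldP σ (QuotientGroup.mk s) = QuotientGroup.mk (fieldSL σ s) := rfl

/-- The inverse-transpose automorphism of `PSL`. -/
def invP : MulAut PSLn := autQ invT

theorem invP_mk (s : SLn) : (invP : MulAut PSLn) (QuotientGroup.mk s) = QuotientGroup.mk (invT s) := rfl

theorem invP_mul_self : (invP : MulAut PSLn) * invP = 1 := by
  rw [invP, ← map_mul, show (invT : MulAut SLn) * invT = 1 from MulEquiv.ext invT_invT, map_one]

theorem isInnerDiagonal_conjP (g : GL (Fin n) F) : Cfsg.IsInnerDiagonalAutPSL (conjP g) :=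
  ⟨g, fun s s' h => by rw [conjP_mk, show conjSL g s = s' from Subtype.ext h.symm]⟩

theorem isStdField_fieldP (σ : F ≃+* F) : Cfsg.IsStdFieldAutPSL σ (fieldP (n := n) σ) :=
  fun s s' h => by rw [fieldP_mk, show fieldSL σ s = s' from Subtype.ext h.symm]

theorem isInvT_invP : Cfsg.IsInverseTransposeAutPSL (invP : MulAut PSLn) :=
  fun s s' h => by rw [invP_mk, show invT s = s' from Subtype.ext h.symm]

theorem eq_conjP {β : MulAut PSLn} (h : Cfsg.IsInnerDiagonalAutPSL β) : ∃ g, β = conjP g := by
  obtain ⟨g, hg⟩ := h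
  refine ⟨g, MulEquiv.ext fun x => ?_⟩
  induction x using QuotientGroup.induction_on with
  | _ s => rw [conjP_mk]; exact hg s (conjSL g s) rfl

theorem eq_fieldP {β : MulAut PSLn} {σ : F ≃+* F} (h : Cfsg.IsStdFieldAutPSL σ β) : β = fieldP σ := by
  refine MulEquiv.ext fun x => ?_
  induction x using QuotientGroup.induction_on with
  | _ s => rw [fieldP_mk]; exact h s (fieldSL σ s) rfl

theorem eq_invP {β : MulAut PSLn} (h : Cfsg.IsInverseTransposeAutPSL β) : β = invP := by
  refine MulEquiv.ext fun x => ?_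
  induction x using QuotientGroup.induction_on with
  | _ s => rw [invP_mk]; exact h s (invT s) rfl

theorem conjP_toGL (g : SLn) :
    conjP (Matrix.SpecialLinearGroup.toGL g) = MulAut.conj (QuotientGroup.mk g : PSLn) := by
  refine MulEquiv.ext fun x => ?_
  induction x using QuotientGroup.induction_on with
  | _ s => rw [conjP_mk, conjSL_toGL]; rfl

theorem inndiagPSL_eq_range : Cfsg.inndiagPSL n F = (conjP : GL (Fin n) F →* MulAut PSLn).range := by
  refine le_antisymm ((Subgroup.closure_le _).2 fun β hβ => ?_) ?_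
  · obtain ⟨g, rfl⟩ := eq_conjP hβ
    exact ⟨g, rfl⟩
  · rintro _ ⟨g, rfl⟩
    exact Subgroup.subset_closure (isInnerDiagonal_conjP g)

theorem conjP_mem_gammaPSL (g : GL (Fin n) F) : conjP g ∈ Cfsg.gammaPSL n F := by
  refine Subgroup.subset_closure ⟨g, RingEquiv.refl F, fun s s' h => ?_⟩
  rw [conjP_mk, show conjSL g s = s' from Subtype.ext (by rw [h, conjSL_coe]; simp)]

theorem fieldP_mem_gammaPSL (σ : F ≃+* F) : fieldP σ ∈ Cfsg.gammaPSL n F := by
  refine Subgroup.subset_closure ⟨1, σ, fun s s' h => ?_⟩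
  rw [fieldP_mk, show fieldSL σ s = s' from Subtype.ext (by rw [h, fieldSL_coe]; simp)]

end Cfsg.Agent.AutPSL
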