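import Cfsg.Agent.Lib.AutPSL.Root

/-!
The centre of the unitriangular Sylow subgroup of `PSL_n`; automorphisms permute transvection groups.
-/

set_option autoImplicit false

open Matrix
open scoped MatrixGroups

namespace Cfsg.Agent.AutPSL

variable {m : ℕ} {F : Type*} [Field F] [Fintype F]

local notation "SLn" => Matrix.SpecialLinearGroup (Fin (m + 1)) F
local notation "PSLn" => Matrix.ProjectiveSpecialLinearGroup (Fin (m + 1)) F

/-- The unitriangular subgroup of `PSL`. -/
def upper : Subgroup PSLn := (GL.unitriangularSL (m + 1) F).map (QuotientGroup.mk' _)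

omit [Fintype F] in
theorem mem_unitriangularSL {g : SLn} :
    g ∈ GL.unitriangularSL (m + 1) F ↔
      (∀ i j, j < i → g.1 i j = 0) ∧ ∀ i, g.1 i i = 1 := by
  rw [GL.unitriangularSL, Subgroup.mem_comap, GL.mem_unitriangular]
  rfl

theorem dot_e0_last (hm : 1 ≤ m) :
    (Pi.single (Fin.last m) (1 : F) : Fin (m + 1) → F) ⬝ᵥ Pi.single 0 1 = 0 := by
  have : Fin.last m ≠ 0 := by simp [Fin.ext_iff]; omega
  simp [this]

omit [Fintype F] in
theorem coe_commute_mk {g v : SLn} (hg : g ∈ GL.unitriangularSL (m + 1) F)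
    (hv : v ∈ GL.unitriangularSL (m + 1) F)
    (h : (QuotientGroup.mk (g * v) : PSLn) = QuotientGroup.mk (v * g)) : g.1 * v.1 = v.1 * g.1 := by
  obtain ⟨z, hz⟩ := exists_smul_of_mk_eq h
  have h0 := congrFun (congrFun hz 0) 0
  rw [(mem_unitriangularSL.1 ((GL.unitriangularSL (m + 1) F).mul_mem hg hv)).2, Matrix.smul_apply,
    (mem_unitriangularSL.1 ((GL.unitriangularSL (m + 1) F).mul_mem hv hg)).2, smul_eq_mul, mul_one] at h0
  rw [← h0, one_smul] at hz
  simpa [Matrix.SpecialLinearGroup.coe_mul] using hz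

theorem inf_centralizer_upper (hm : 1 ≤ m) :
    (upper : Subgroup PSLn) ⊓ Subgroup.centralizer ((upper : Subgroup PSLn) : Set PSLn) =
      root (Pi.single 0 1) (Pi.single (Fin.last m) 1) (dot_e0_last (F := F) hm) := by
  have h0m : Fin.last m ≠ 0 := by simp [Fin.ext_iff]; omega
  ext x
  constructor
  · rintro ⟨⟨u, hu, rfl⟩, hx⟩
    obtain ⟨hu1, hu2⟩ := mem_unitriangularSL.1 hu
    have hc : ∀ i j : Fin (m + 1), i < j → u.1 * Matrix.single i j 1 = Matrix.single i j 1 * u.1 := by
      intro i j hij
      let v : SLn := Matrix.SpecialLinearGroup.transvection hij.ne 1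
      have hv : v ∈ GL.unitriangularSL (m + 1) F := by
        refine mem_unitriangularSL.2 ⟨fun a b hba => ?_, fun a => ?_⟩
        · simp only [v, Matrix.SpecialLinearGroup.transvection_coe, Matrix.add_apply, Matrix.one_apply_ne hba.ne',
            zero_add, Matrix.single_apply]
          rw [if_neg]
          rintro ⟨rfl, rfl⟩; exact lt_asymm hij hba
        · simp only [v, Matrix.SpecialLinearGroup.transvection_coe, Matrix.add_apply, Matrix.one_apply_eq,
            Matrix.single_apply]
          rw [if_neg, add_zero]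
          rintro ⟨rfl, rfl⟩; exact lt_irrefl _ hij
      have := coe_commute_mk hu hv (by
        rw [QuotientGroup.mk_mul, QuotientGroup.mk_mul]
        exact (hx _ ⟨v, hv, rfl⟩).symm)
      simp only [v, Matrix.SpecialLinearGroup.transvection_coe, mul_add, add_mul, mul_one, one_mul] at this
      exact add_left_cancel this
    have hoff : ∀ i j : Fin (m + 1), i ≠ j → ¬ (i = 0 ∧ j = Fin.last m) → u.1 i j = 0 := by
      intro i j hij hne
      by_cases hj : j = Fin.last m
      · have hi : i ≠ 0 := fun h => hne ⟨h, hj⟩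
        have h1 := congrFun (congrFun (hc 0 i (Fin.pos_iff_ne_zero.2 hi)) 0) j
        rw [Matrix.single_mul_apply_same, one_mul, Matrix.mul_single_apply_of_ne _ _ _ _ _ hij.symm] at h1
        exact h1.symm
      · have h1 := congrFun (congrFun (hc j (Fin.last m) (Fin.lt_last_iff_ne_last.2 hj)) i) (Fin.last m)
        rw [Matrix.mul_single_apply_same, mul_one, Matrix.single_mul_apply_of_ne _ _ _ _ _ hij] at h1
        exact h1
    refine ⟨Multiplicative.ofAdd (u.1 0 (Fin.last m)), congrArg QuotientGroup.mk (Subtype.ext ?_)⟩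
    ext i j
    simp only [tv_coe, toAdd_ofAdd, Matrix.add_apply, vecMulVec_apply, Pi.smul_apply, smul_eq_mul]
    rcases eq_or_ne i j with rfl | hij
    · rw [Matrix.one_apply_eq, hu2]
      rcases eq_or_ne i 0 with rfl | hi
      · simp [h0m.symm]
      · simp [hi]
    · rw [Matrix.one_apply_ne hij, zero_add]
      by_cases h : i = 0 ∧ j = Fin.last m
      · simp [h.1, h.2]
      · rw [hoff i j hij h]
        rcases not_and_or.1 h with h | h <;> simp [h]
  · rintro ⟨t, rfl⟩
    refine ⟨⟨_, mem_unitriangularSL.2 ⟨fun i j hji => ?_, fun i => ?_⟩, rfl⟩, ?_⟩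
    · simp only [tv_coe, Matrix.add_apply, vecMulVec_apply, Pi.smul_apply, smul_eq_mul,
        Matrix.one_apply_ne hji.ne', zero_add]
      rcases eq_or_ne i 0 with rfl | hi
      · exact absurd hji (by simp)
      · simp [hi]
    · simp only [tv_coe, Matrix.add_apply, vecMulVec_apply, Pi.smul_apply, smul_eq_mul, Matrix.one_apply_eq]
      rcases eq_or_ne i 0 with rfl | hi
      · simp [h0m.symm]
      · simp [hi]
    · rintro _ ⟨v, hv, rfl⟩
      obtain ⟨hv1, hv2⟩ := mem_unitriangularSL.1 hv
      have hl : v.1 *ᵥ Pi.single 0 1 = Pi.single 0 1 := by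
        ext i
        rw [Matrix.mulVec_single_one]
        rcases eq_or_ne i 0 with rfl | hi
        · simp [hv2]
        · simp [hi, hv1 i 0 (Fin.pos_iff_ne_zero.2 hi)]
      have hr : Pi.single (Fin.last m) 1 ᵥ* v.1 = Pi.single (Fin.last m) 1 := by
        ext i
        rw [Matrix.single_one_vecMul]
        rcases eq_or_ne i (Fin.last m) with rfl | hi
        · simp [hv2]
        · simp [hi, hv1 _ i (Fin.lt_last_iff_ne_last.2 hi)]
      show (QuotientGroup.mk v : PSLn) * QuotientGroup.mk (tv _ _ _) =
        QuotientGroup.mk (tv (t.toAdd • Pi.single 0 1) (Pi.single (Fin.last m) 1) (dot_smul_zero (dot_e0_last hm) _)) *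
          QuotientGroup.mk v
      rw [← QuotientGroup.mk_mul, ← QuotientGroup.mk_mul]
      refine congrArg QuotientGroup.mk (Subtype.ext ?_)
      simp [tv_coe, mul_add, add_mul, Matrix.mul_vecMulVec, Matrix.vecMulVec_mul, Matrix.mulVec_smul, hl, hr,
        Matrix.smul_vecMulVec]

/-- Automorphisms of `PSL` send transvection groups to transvection groups. -/
theorem isRoot_map (hm : 1 ≤ m) (β : MulAut PSLn) {R : Subgroup PSLn} (hR : IsRoot R) :
    IsRoot (R.map (β : PSLn ≃* PSLn).toMonoidHom) := by
  classical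
  obtain ⟨p, hp⟩ := CharP.exists F
  obtain ⟨_, hpp, -⟩ := FiniteField.card F p
  haveI : Fact p.Prime := ⟨hpp⟩
  let q : SLn →* PSLn := QuotientGroup.mk' (Subgroup.center SLn)
  have hq : Function.Surjective q := QuotientGroup.mk_surjective
  let S := GL.sylowSL (F := F) p (m + 1)
  let P : Sylow p PSLn := S.mapSurjective hq
  have hP : (P : Subgroup PSLn) = upper := rfl
  have h0 : IsRoot (root (Pi.single 0 1) (Pi.single (Fin.last m) 1) (dot_e0_last (F := F) hm)) :=
    ⟨_, _, _, by simp, by simp, rfl⟩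
  have hbase : IsRoot ((root (Pi.single 0 1) (Pi.single (Fin.last m) 1) (dot_e0_last (F := F) hm)).map
      (β : PSLn ≃* PSLn).toMonoidHom) := by
    let P' : Sylow p PSLn := P.mapSurjective (f := (β : PSLn ≃* PSLn).toMonoidHom) β.surjective
    obtain ⟨g', hg'⟩ := MulAction.exists_smul_eq PSLn P P'
    obtain ⟨g, rfl⟩ := QuotientGroup.mk_surjective g'
    have hU : (upper : Subgroup PSLn).map (β : PSLn ≃* PSLn).toMonoidHom =
        upper.map (conjP (Matrix.SpecialLinearGroup.toGL g) : PSLn ≃* PSLn).toMonoidHom := by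
      rw [conjP_toGL]
      have := congrArg (fun Q : Sylow p PSLn => (Q : Subgroup PSLn)) hg'
      rw [← hP]
      exact this.symm
    have key : ∀ e : MulAut PSLn,
        ((upper : Subgroup PSLn) ⊓ Subgroup.centralizer ((upper : Subgroup PSLn) : Set PSLn)).map
          (e : PSLn ≃* PSLn).toMonoidHom =
        upper.map (e : PSLn ≃* PSLn).toMonoidHom ⊓
          Subgroup.centralizer ((upper.map (e : PSLn ≃* PSLn).toMonoidHom : Subgroup PSLn) : Set PSLn) := by
      intro e
      ext y
      obtain ⟨x, rfl⟩ := e.surjective y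
      simp only [Subgroup.mem_map_equiv, Subgroup.mem_inf, Subgroup.mem_centralizer_iff, SetLike.mem_coe,
        MulEquiv.symm_apply_apply]
      refine and_congr_right fun _ => ⟨fun h z hz => ?_, fun h z hz => ?_⟩
      · obtain ⟨w, rfl⟩ := e.surjective z
        rw [MulEquiv.symm_apply_apply] at hz
        rw [← map_mul, ← map_mul, h w hz]
      · exact e.injective (by rw [map_mul, map_mul]; exact h (e z) (by simpa using hz))
    rw [← inf_centralizer_upper hm, key, hU, ← key, inf_centralizer_upper hm]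
    exact isRoot_map_conj h0 _
  obtain ⟨a, φ, h, ha, hφ, rfl⟩ := hR
  obtain ⟨g, hga, hgφ⟩ := exists_SL_move hm ha hφ h
  have hg : root a φ h = (root (Pi.single 0 1) (Pi.single (Fin.last m) 1) (dot_e0_last (F := F) hm)).map
      (conjP (Matrix.SpecialLinearGroup.toGL g) : PSLn ≃* PSLn).toMonoidHom := by
    rw [map_conjP_root]
    refine (root_congr _ _ ?_ ?_).symm
    · exact hga
    · rw [← map_inv]
      exact hgφ
  obtain ⟨h', hh'⟩ := QuotientGroup.mk_surjective (β (QuotientGroup.mk g))
  have hswap : root a φ h = root a φ h → (β * conjP (Matrix.SpecialLinearGroup.toGL g) : MulAut PSLn) =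
      conjP (Matrix.SpecialLinearGroup.toGL h') * β := by
    intro _
    rw [conjP_toGL, conjP_toGL, hh']
    refine MulEquiv.ext fun x => ?_
    simp [MulAut.mul_apply]
  rw [hg, Subgroup.map_map]
  have : (β : PSLn ≃* PSLn).toMonoidHom.comp (conjP (Matrix.SpecialLinearGroup.toGL g) : PSLn ≃* PSLn).toMonoidHom =
      (conjP (Matrix.SpecialLinearGroup.toGL h') : PSLn ≃* PSLn).toMonoidHom.comp (β : PSLn ≃* PSLn).toMonoidHom :=
    MonoidHom.ext fun x => by
      simpa [MulAut.mul_apply] using MulEquiv.congr_fun (hswap rfl) x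
  rw [this, ← Subgroup.map_map]
  exact isRoot_map_conj hbase _

end Cfsg.Agent.AutPSL
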