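import Cfsg.Agent.Lib.AutPSL.Group
import Cfsg.Agent.Lib.AutPSL.Split
import Cfsg.Agent.Lib.Field.Fixed

/-!
Field automorphisms of `PSL_n`: Lang's theorem, centralisers in `PGL_n` and class splitting.
-/

set_option autoImplicit false

open Matrix
open scoped MatrixGroups

namespace Cfsg.Agent.AutPSL

variable {m : ℕ} {F : Type*} [Field F] [Fintype F]

local notation "SLn" => Matrix.SpecialLinearGroup (Fin (m + 1)) F
local notation "PSLn" => Matrix.ProjectiveSpecialLinearGroup (Fin (m + 1)) F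
local notation "GLn" => GL (Fin (m + 1)) F
local notation "scal" => Matrix.GeneralLinearGroup.scalar (Fin (m + 1))

theorem glMap_scalar (σ : F ≃+* F) (u : Fˣ) :
    FieldExt.glMap σ (scal u) = scal (Units.map (σ : F →* F) u) := by
  refine Units.ext ?_
  ext i j
  rcases eq_or_ne i j with rfl | hij <;>
    simp [FieldExt.glMap_val, Matrix.GeneralLinearGroup.coe_scalar, *]

theorem scalar_inj {a b : Fˣ} (h : (scal a : GLn) = scal b) : a = b := GL.scalar_injective h

/-- **Lang's theorem in `PGL_n`**: an element of order `r` in the coset of a field automorphism of order `r`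
is conjugate to it. -/
theorem lang_field (hm : 1 ≤ m) (σ : F ≃+* F) {r : ℕ} (hσ : orderOf σ = r) (g : GLn)
    (h : (conjP g * fieldP σ : MulAut PSLn) ^ r = 1) :
    ∃ k : GLn, (conjP g * fieldP σ : MulAut PSLn) = conjP k * fieldP σ * (conjP k)⁻¹ := by
  have hr : 0 < r := hσ ▸ FieldExt.orderOf_pos' σ
  rw [conjP_mul_fieldP_pow, ← hσ, pow_orderOf_eq_one, fieldP_one, mul_one, hσ] at h
  obtain ⟨c, hc⟩ := (conjP_eq_one_iff hm _).1 h
  -- the scalar is fixed by `σ`
  have hcfix : σ (c : F) = c := by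
    have e := FieldExt.twistNorm_add σ g 1 r
    rw [Nat.add_comm 1 r, FieldExt.twistNorm_add, hc] at e
    rw [← hσ, pow_orderOf_eq_one, FieldExt.glMap_one, pow_one, glMap_scalar,
      show FieldExt.twistNorm σ g 1 = g by rw [FieldExt.twistNorm_succ, FieldExt.twistNorm_zero, map_one, mul_one],
      scalar_commutes] at e
    exact (congrArg Units.val (scalar_inj (mul_left_cancel e))).symm
  obtain ⟨z, hz⟩ := FieldExt.exists_prod_eq σ hr hσ c hcfix
  have hnorm : FieldExt.twistNorm σ (g * scal z⁻¹) r = 1 := by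
    rw [FieldExt.twistNorm_mul_scalar, hc]
    rw [← map_mul, ← map_one scal]
    congr 1
    simp only [map_inv, Finset.prod_inv_distrib, hz, mul_inv_cancel]
  obtain ⟨k, hk⟩ := FieldExt.exists_descent σ hr hσ _ hnorm
  refine ⟨k, ?_⟩
  rw [← map_inv, mul_assoc, fieldP_mul_conjP, ← mul_assoc, ← map_mul, map_inv (FieldExt.glMap σ)]
  congr 1
  refine (conjP_eq_conjP_iff hm _ _).2 ⟨z, ?_⟩
  rw [← eq_mul_inv_iff_mul_eq.2 hk, mul_assoc g, ← map_mul, inv_mul_cancel, map_one, mul_one]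

theorem mem_centralizer_fieldP_iff (hm : 1 ≤ m) (σ : F ≃+* F) (g : GLn) :
    (conjP g : MulAut PSLn) * fieldP σ * (conjP g)⁻¹ = fieldP σ ↔
      ∃ c : Fˣ, FieldExt.glMap σ g = g * scal c := by
  rw [mul_inv_eq_iff_eq_mul, fieldP_mul_conjP, mul_left_inj, eq_comm, conjP_eq_conjP_iff hm]

theorem prod_eq_one_of_glMap_eq (σ : F ≃+* F) {r : ℕ} (hσ : orderOf σ = r) (g : GLn) (c : Fˣ)
    (hc : FieldExt.glMap σ g = g * scal c) :
    ∏ i ∈ Finset.range r, Units.map ((σ ^ i : F ≃+* F) : F →* F) c = 1 := by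
  have key : ∀ k, FieldExt.glMap (σ ^ k) g =
      g * scal (∏ i ∈ Finset.range k, Units.map ((σ ^ i : F ≃+* F) : F →* F) c) := by
    intro k
    induction k with
    | zero => simp [FieldExt.glMap_one]
    | succ k ih =>
      rw [pow_succ', FieldExt.glMap_mul, ih, map_mul, hc, glMap_scalar, mul_assoc, ← map_mul,
        Finset.prod_range_succ' _ k, mul_comm (∏ i ∈ Finset.range k, _) _, pow_zero]
      congr 2
      rw [map_prod]
      refine congrArg₂ (· * ·) (Units.ext (by simp)) (Finset.prod_congr rfl fun i _ => Units.ext ?_)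
      simp [pow_succ']
  have h := key r
  rw [← hσ, pow_orderOf_eq_one, FieldExt.glMap_one, hσ, left_eq_mul] at h
  exact scalar_inj (h.trans (map_one scal).symm)

/-- The centraliser of a field automorphism consists of matrices over the fixed field, up to scalars. -/
theorem exists_fixed_rep (σ : F ≃+* F) (g : GLn) (c : Fˣ) (hc : FieldExt.glMap σ g = g * scal c) :
    ∃ (g₀ : GLn) (y : Fˣ), FieldExt.glMap σ g₀ = g₀ ∧ g = g₀ * scal y := by
  obtain ⟨y, hy⟩ := FieldExt.exists_div_eq σ (FieldExt.orderOf_pos' σ) rfl c (prod_eq_one_of_glMap_eq σ rfl g c hc)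
  refine ⟨g * scal y, y⁻¹, ?_, by rw [mul_assoc, ← map_mul, mul_inv_cancel, map_one, mul_one]⟩
  rw [map_mul, hc, glMap_scalar, mul_assoc, ← map_mul, hy]

section Embedding

variable {F₀ : Type*} [Field F₀] (ι : F₀ →+* F)

/-- `GL_n(F₀) → Aut(PSL_n(F))`. -/
def embedAut : GL (Fin (m + 1)) F₀ →* MulAut PSLn :=
  conjP.comp (Matrix.GeneralLinearGroup.map ι)

theorem range_embedAut (hm : 1 ≤ m) (σ : F ≃+* F) (hι : ∀ a : F, σ a = a ↔ a ∈ Set.range ι) :
    (embedAut (m := m) ι).range = Cfsg.inndiagPSL (m + 1) F ⊓ Subgroup.centralizer {fieldP σ} := by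
  ext x
  constructor
  · rintro ⟨g, rfl⟩
    refine ⟨by rw [inndiagPSL_eq_range]; exact ⟨_, rfl⟩, mem_centralizer_singleton.2 ?_⟩
    refine (mem_centralizer_fieldP_iff hm σ _).2 ⟨1, ?_⟩
    rw [map_one, mul_one]
    refine Units.ext ?_
    ext i j
    exact (hι _).2 ⟨g.val i j, rfl⟩
  · rintro ⟨hx1, hx2⟩
    rw [inndiagPSL_eq_range] at hx1
    obtain ⟨g, rfl⟩ := hx1
    obtain ⟨c, hc⟩ := (mem_centralizer_fieldP_iff hm σ g).1 (mem_centralizer_singleton.1 hx2)
    obtain ⟨g₀, y, hg₀, rfl⟩ := exists_fixed_rep σ g c hc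
    have hent : ∀ i j, ∃ a, ι a = g₀.val i j := fun i j => by
      refine (hι _).1 ?_
      exact congrFun (congrFun (congrArg (fun A : GLn => A.val) hg₀) i) j
    choose M hM using hent
    have hmap : (Matrix.of M).map ι = g₀.val := by ext i j; exact hM i j
    have hdet : IsUnit (Matrix.of M).det := by
      rw [isUnit_iff_ne_zero]
      intro h0
      have := congrArg ι h0
      rw [RingHom.map_det, map_zero, RingHom.mapMatrix_apply, hmap] at this
      exact ((Matrix.isUnit_iff_isUnit_det _).1 g₀.isUnit).ne_zero this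
    refine ⟨Matrix.nonsingInvUnit (Matrix.of M) hdet, ?_⟩
    rw [embedAut, MonoidHom.comp_apply, map_mul, conjP_scalar, mul_one]
    exact congrArg conjP (Units.ext hmap)

theorem ker_embedAut (hm : 1 ≤ m) :
    (embedAut (m := m) ι).ker = Subgroup.center (GL (Fin (m + 1)) F₀) := by
  ext g
  rw [MonoidHom.mem_ker, Matrix.GeneralLinearGroup.center_eq_range_scalar, embedAut, MonoidHom.comp_apply,
    conjP_eq_one_iff hm]
  constructor
  · rintro ⟨c, hc⟩
    have he : ∀ i j, ι (g.val i j) = if i = j then (c : F) else 0 := fun i j => by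
      have := congrFun (congrFun (congrArg (fun A : GLn => A.val) hc) i) j
      simpa [Matrix.GeneralLinearGroup.coe_scalar, Matrix.diagonal_apply] using this
    have h00 : g.val 0 0 ≠ 0 := fun h => c.ne_zero (by have := he 0 0; rw [h, map_zero, if_pos rfl] at this; exact this.symm)
    refine ⟨Units.mk0 _ h00, Units.ext ?_⟩
    ext i j
    apply ι.injective
    rw [he i j]
    rcases eq_or_ne i j with rfl | hij
    · simpa [Matrix.GeneralLinearGroup.coe_scalar] using he 0 0
    · simp [Matrix.GeneralLinearGroup.coe_scalar, hij]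
  · rintro ⟨c, rfl⟩
    refine ⟨Units.map ι.toMonoidHom c, Units.ext ?_⟩
    ext i j
    rcases eq_or_ne i j with rfl | hij <;> simp [Matrix.GeneralLinearGroup.coe_scalar, *]

/-- `C_{PGL_n(F)}(σ) ≅ PGL_n(F₀)`. -/
noncomputable def centralizerFieldEquiv (hm : 1 ≤ m) (σ : F ≃+* F) (hι : ∀ a : F, σ a = a ↔ a ∈ Set.range ι) :
    ↥(Cfsg.inndiagPSL (m + 1) F ⊓ Subgroup.centralizer {fieldP σ}) ≃*
      Matrix.ProjGenLinGroup (Fin (m + 1)) F₀ :=
  (MulEquiv.subgroupCongr (range_embedAut ι hm σ hι).symm).trans <|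
    (QuotientGroup.quotientKerEquivRange (embedAut (m := m) ι)).symm.trans
      (QuotientGroup.quotientMulEquivOfEq (ker_embedAut ι hm))

end Embedding

theorem sup_range_pow (G : Type*) [CommGroup G] (a b : ℕ) :
    (powMonoidHom a : G →* G).range ⊔ (powMonoidHom b).range = (powMonoidHom (Nat.gcd a b)).range := by
  refine le_antisymm (sup_le ?_ ?_) ?_
  · rintro _ ⟨x, rfl⟩
    obtain ⟨k, hk⟩ := Nat.gcd_dvd_left a b
    refine ⟨x ^ k, ?_⟩
    rw [powMonoidHom_apply, powMonoidHom_apply, ← pow_mul]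
    exact congrArg (x ^ ·) ((mul_comm _ _).trans hk.symm)
  · rintro _ ⟨x, rfl⟩
    obtain ⟨k, hk⟩ := Nat.gcd_dvd_right a b
    refine ⟨x ^ k, ?_⟩
    rw [powMonoidHom_apply, powMonoidHom_apply, ← pow_mul]
    exact congrArg (x ^ ·) ((mul_comm _ _).trans hk.symm)
  · rintro _ ⟨x, rfl⟩
    rw [powMonoidHom_apply, ← zpow_natCast, Nat.gcd_eq_gcd_ab, _root_.zpow_add, mul_comm (a : ℤ), mul_comm (b : ℤ),
      _root_.zpow_mul, _root_.zpow_mul, zpow_natCast, zpow_natCast]
    exact Subgroup.mul_mem _ (Subgroup.mem_sup_left ⟨_, rfl⟩) (Subgroup.mem_sup_right ⟨_, rfl⟩)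

theorem split_fieldP (hm : 1 ≤ m) (σ : F ≃+* F) :
    Cfsg.splitClassCount (Cfsg.inndiagPSL (m + 1) F) (Cfsg.Inn PSLn) (fieldP σ) =
      Nat.gcd (m + 1) ((Fintype.card F - 1) / (Nat.card (FieldExt.fixedField σ) - 1)) := by
  classical
  rw [splitClassCount_eq _ _ inn_le_inndiag]
  set k := (Fintype.card F - 1) / (Nat.card (FieldExt.fixedField σ) - 1)
  set S := Cfsg.Inn PSLn ⊔ (Cfsg.inndiagPSL (m + 1) F ⊓ Subgroup.centralizer {fieldP σ})
  have hcomap : S.comap conjP =
      ((powMonoidHom (m + 1) : Fˣ →* Fˣ).range ⊔ FieldExt.fixedUnits σ).comap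
        (Matrix.GeneralLinearGroup.det : GLn →* Fˣ) := by
    ext g
    rw [Subgroup.mem_comap, Subgroup.mem_comap]
    constructor
    · intro hg
      rw [Subgroup.mem_sup_of_normal_left] at hg
      obtain ⟨a, ha, b, ⟨hb1, hb2⟩, he⟩ := hg
      rw [inndiagPSL_eq_range] at hb1
      obtain ⟨b, rfl⟩ := hb1
      obtain ⟨x, rfl⟩ : ∃ x, conjP x = a :=
        MonoidHom.mem_range.1 (by rw [← inndiagPSL_eq_range]; exact inn_le_inndiag ha)
      obtain ⟨c, hc⟩ := (mem_centralizer_fieldP_iff hm σ b).1 (mem_centralizer_singleton.1 hb2)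
      obtain ⟨b₀, y, hb₀, rfl⟩ := exists_fixed_rep σ b c hc
      rw [← map_mul] at he
      obtain ⟨z, rfl⟩ := (conjP_eq_conjP_iff hm _ _).1 he.symm
      obtain ⟨w, hw⟩ := (conjP_mem_inn_iff hm x).1 ha
      have hdetfix : Matrix.GeneralLinearGroup.det b₀ ∈ FieldExt.fixedUnits σ := by
        rw [FieldExt.mem_fixedUnits]
        have := congrArg (fun A : GLn => A.val.det) hb₀
        simp only [FieldExt.glMap_val] at this
        rwa [show (b₀.val.map σ).det = σ b₀.val.det from (RingHom.map_det σ.toRingHom b₀.val).symm] at this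
      have hscal : ∀ u : Fˣ, Matrix.GeneralLinearGroup.det (scal u) = u ^ (m + 1) := fun u => Units.ext (by
        simp [Matrix.GeneralLinearGroup.val_det_apply, Matrix.GeneralLinearGroup.coe_scalar])
      simp only [map_mul, hscal, hw]
      rw [← mul_assoc, mul_assoc (w ^ (m + 1) * _), ← mul_pow]
      exact Subgroup.mul_mem _ (Subgroup.mul_mem _ (Subgroup.mem_sup_left ⟨w, rfl⟩) (Subgroup.mem_sup_right hdetfix))
        (Subgroup.mem_sup_left ⟨y * z, rfl⟩)
    · intro hg
      rw [Subgroup.mem_sup] at hg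
      obtain ⟨_, ⟨w, rfl⟩, v, hv, he⟩ := hg
      let b : GLn := GL.diagHom (Function.update (fun _ => (1 : Fˣ)) 0 v)
      have hbdet : Matrix.GeneralLinearGroup.det b = v := by
        rw [GL.det_diagHom, Finset.prod_update_of_mem (Finset.mem_univ _)]
        simp
      have hbC : (conjP b : MulAut PSLn) ∈ Cfsg.inndiagPSL (m + 1) F ⊓ Subgroup.centralizer {fieldP σ} := by
        refine ⟨by rw [inndiagPSL_eq_range]; exact ⟨b, rfl⟩,
          mem_centralizer_singleton.2 ((mem_centralizer_fieldP_iff hm σ b).2 ⟨1, ?_⟩)⟩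
        rw [map_one, mul_one]
        refine Units.ext ?_
        ext i j
        rw [FieldExt.glMap_val, GL.coe_diagHom, Matrix.map_apply, Matrix.diagonal_apply]
        rcases eq_or_ne i j with rfl | hij
        · rcases eq_or_ne i 0 with rfl | hi
          · simpa using FieldExt.mem_fixedUnits.1 hv
          · simp [hi]
        · simp [hij]
      have hinn : (conjP (g * b⁻¹) : MulAut PSLn) ∈ Cfsg.Inn PSLn :=
        (conjP_mem_inn_iff hm _).2 ⟨w, by rw [map_mul, map_inv, hbdet, ← he, mul_inv_cancel_right]; rfl⟩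
      have := Subgroup.mul_mem S (Subgroup.mem_sup_left hinn) (Subgroup.mem_sup_right hbC)
      rwa [← map_mul, inv_mul_cancel_right] at this
  rw [inndiagPSL_eq_range, ← Subgroup.index_comap, hcomap,
    Subgroup.index_comap_of_surjective _ Matrix.GeneralLinearGroup.det_surjective,
    FieldExt.fixedUnits_eq_range_pow, sup_range_pow, IsCyclic.index_powMonoidHom_range, Nat.card_units,
    Nat.card_eq_fintype_card]
  refine Nat.gcd_eq_right ((Nat.gcd_dvd_right _ _).trans (Nat.div_dvd_of_dvd ?_))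
  have := Subgroup.card_subgroup_dvd_card (FieldExt.fixedUnits σ)
  rwa [FieldExt.card_fixedUnits, Nat.card_units, Nat.card_eq_fintype_card (α := F)] at this

/-- An element conjugate to a standard field automorphism. -/
theorem exists_std_of_fieldClass {x : MulAut PSLn} (hx : Cfsg.IsFieldAutClassPSL x) :
    ∃ (α : MulAut PSLn) (σ : F ≃+* F), σ ≠ 1 ∧ x = α * fieldP σ * α⁻¹ := by
  obtain ⟨α, σ, hσ, hφ⟩ := hx
  refine ⟨α⁻¹, σ, hσ, ?_⟩
  rw [← eq_fieldP hφ]
  group

theorem orderOf_conj_mul (a y : MulAut PSLn) : orderOf (a * y * a⁻¹) = orderOf y :=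
  (MulAut.conj a).orderOf_eq y

/-- Conjugacy of elements of the right order is preserved under transport. -/
theorem orderOf_iff_conj_transport (hm : 1 ≤ m) (α x₀ : MulAut PSLn) {r : ℕ} (hr : orderOf x₀ = r)
    (h0 : ∀ g : GLn, (conjP g * x₀ : MulAut PSLn) ^ r = 1 →
      ∃ k : GLn, (conjP g * x₀ : MulAut PSLn) = conjP k * x₀ * (conjP k)⁻¹)
    (δ : MulAut PSLn) (hδ : δ ∈ Cfsg.inndiagPSL (m + 1) F) :
    orderOf (δ * (α * x₀ * α⁻¹)) = r ↔
      Cfsg.IsConjUnder (Cfsg.inndiagPSL (m + 1) F) (α * x₀ * α⁻¹) (δ * (α * x₀ * α⁻¹)) := by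
  haveI := inndiag_normal (F := F) hm
  constructor
  · intro ho
    have hδ' : α⁻¹ * δ * α ∈ Cfsg.inndiagPSL (m + 1) F := by
      simpa using Subgroup.Normal.conj_mem inferInstance δ hδ α⁻¹
    rw [inndiagPSL_eq_range] at hδ'
    obtain ⟨g, hg⟩ := hδ'
    have e : δ * (α * x₀ * α⁻¹) = α * (conjP g * x₀) * α⁻¹ := by rw [hg]; group
    have hpow : (conjP g * x₀ : MulAut PSLn) ^ r = 1 := by
      rw [← ho, e, orderOf_conj_mul, pow_orderOf_eq_one]
    obtain ⟨k, hk⟩ := h0 g hpow
    refine ⟨α * conjP k * α⁻¹, Subgroup.Normal.conj_mem inferInstance _ ?_ α, ?_⟩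
    · rw [inndiagPSL_eq_range]; exact ⟨k, rfl⟩
    · rw [e, hk]; group
  · rintro ⟨h, -, e⟩
    rw [e, orderOf_conj_mul, orderOf_conj_mul, hr]

end Cfsg.Agent.AutPSL
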