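import Cfsg.Agent.Lib.AutPSL.FieldAut
import Cfsg.Agent.Lib.Field.HermDiag
import Cfsg.Agent.Lib.Forms.Herm

/-!
Graph-field automorphisms of `PSL_n`: conjugacy, unitary centralisers and class splitting.
-/

set_option autoImplicit false

open Matrix
open scoped MatrixGroups

namespace Cfsg.Agent.AutPSL

variable {m : ℕ} {F : Type*} [Field F] [Fintype F]

local notation "PSLn" => Matrix.ProjectiveSpecialLinearGroup (Fin (m + 1)) F
local notation "GLn" => GL (Fin (m + 1)) F
local notation "scal" => Matrix.GeneralLinearGroup.scalar (Fin (m + 1))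

/-- `g ↦ (σ g)⁻ᵀ`. -/
def theta (σ : F ≃+* F) (g : GLn) : GLn := FieldExt.glMap σ (glIT g)

omit [Fintype F] in
theorem tau_mul_conjP (σ : F ≃+* F) (g : GLn) :
    (fieldP σ * invP : MulAut PSLn) * conjP g = conjP (theta σ g) * (fieldP σ * invP) := by
  rw [mul_assoc, invP_mul_conjP, ← mul_assoc, fieldP_mul_conjP, mul_assoc]
  rfl

omit [Fintype F] in
theorem tau_sq (σ : F ≃+* F) : (fieldP σ * invP : MulAut PSLn) ^ 2 = fieldP (σ ^ 2) := by
  rw [sq, mul_assoc, ← mul_assoc invP, invP_mul_fieldP, mul_assoc, invP_mul_self, mul_one, ← sq, fieldP_pow]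

omit [Fintype F] in
theorem theta_inv_val (σ : F ≃+* F) (g : GLn) :
    ((theta σ g)⁻¹ : GLn).val = (g.val.map σ).transpose := by
  rw [theta, ← map_inv, FieldExt.glMap_val, glIT_inv_val, Matrix.transpose_map]

omit [Fintype F] in
theorem theta_mul (σ : F ≃+* F) (g h : GLn) : theta σ (g * h) = theta σ g * theta σ h := by
  rw [theta, glIT_mul, map_mul]; rfl

omit [Fintype F] in
theorem glIT_scalar (c : Fˣ) : glIT (scal c : GLn) = scal c⁻¹ := by
  refine Units.ext ?_
  rw [glIT_val, ← map_inv, Matrix.GeneralLinearGroup.coe_scalar, Matrix.scalar_apply, Matrix.diagonal_transpose]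

theorem theta_scalar (σ : F ≃+* F) (c : Fˣ) :
    theta σ (scal c : GLn) = scal (Units.map (σ : F →* F) c⁻¹) := by
  rw [theta, glIT_scalar, glMap_scalar]

/-- Order two graph-field automorphisms. -/
theorem tau_order (hm : 2 ≤ m) (σ : F ≃+* F) (hσ : σ ≠ 1) {r : ℕ} (hr : r.Prime)
    (h : orderOf (fieldP σ * invP : MulAut PSLn) = r) : r = 2 ∧ ∀ a, σ (σ a) = a := by
  have hpow := pow_orderOf_eq_one (fieldP σ * invP : MulAut PSLn)
  rw [h] at hpow
  have hr2 : r = 2 := by
    rcases hr.eq_two_or_odd' with h2 | ⟨k, hk⟩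
    · exact h2
    · exfalso
      rw [hk, pow_succ, pow_mul, tau_sq, fieldP_pow, ← mul_assoc,
        show (fieldP ((σ ^ 2) ^ k) : MulAut PSLn) * fieldP σ = fieldP ((σ ^ 2) ^ k * σ) from
          (map_mul (fieldPHom (m := m)) _ _).symm] at hpow
      refine invP_ne hm 1 ((σ ^ 2) ^ k * σ)⁻¹ ?_
      rw [map_one, one_mul, show (fieldP ((σ ^ 2) ^ k * σ)⁻¹ : MulAut PSLn) = (fieldP ((σ ^ 2) ^ k * σ))⁻¹ from
        map_inv (fieldPHom (m := m)) _]
      exact eq_inv_of_mul_eq_one_right hpow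
  subst hr2
  rw [tau_sq, ← fieldP_one] at hpow
  have := fieldP_injective (by omega) hpow
  exact ⟨rfl, fun a => by
    have h' := RingEquiv.congr_fun this a
    rw [sq] at h'
    exact h'⟩

/-- Lang's theorem for a graph-field automorphism. -/
theorem lang_tau (hm : 1 ≤ m) (σ : F ≃+* F) (hi : ∀ a, σ (σ a) = a) (hne : σ ≠ 1) (g : GLn)
    (h : (conjP g * (fieldP σ * invP) : MulAut PSLn) ^ 2 = 1) :
    ∃ k : GLn, (conjP g * (fieldP σ * invP) : MulAut PSLn) = conjP k * (fieldP σ * invP) * (conjP k)⁻¹ := by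
  have hσ2 : σ ^ 2 = 1 := RingEquiv.ext fun a => by rw [sq]; exact hi a
  have hg : (conjP (g * theta σ g) : MulAut PSLn) = 1 := by
    rw [← h, sq, mul_assoc (conjP g), ← mul_assoc (fieldP σ * invP), tau_mul_conjP, mul_assoc (conjP (theta σ g)),
      ← sq, tau_sq, hσ2, fieldP_one, mul_one, ← map_mul]
  obtain ⟨c, hc⟩ := (conjP_eq_one_iff hm _).1 hg
  -- the `*`-transpose of `g` is a multiple of `g`
  have hth : (theta σ g)⁻¹ = scal c⁻¹ * g := by
    rw [eq_inv_mul_of_mul_eq hc, _root_.mul_inv_rev, inv_inv, map_inv]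
  have hS : (g.val.map σ).transpose = (c⁻¹ : Fˣ).val • g.val := by
    rw [← theta_inv_val, hth, Units.val_mul, Matrix.GeneralLinearGroup.coe_scalar]
    ext i j
    simp [Matrix.smul_apply]
  have hne0 : ∃ i j, g.val i j ≠ 0 := by
    by_contra hall
    push Not at hall
    have h1 := congrArg Units.val (mul_inv_cancel g)
    rw [Units.val_mul, show g.val = 0 from Matrix.ext hall, Matrix.zero_mul, Units.val_one] at h1
    simpa using congrFun (congrFun h1 0) 0
  have hcc : ∏ i ∈ Finset.range 2, Units.map ((σ ^ i : F ≃+* F) : F →* F) c = 1 := by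
    obtain ⟨i, j, hij⟩ := hne0
    have h1 : σ (g.val j i) = (c⁻¹ : Fˣ).val * g.val i j := congrFun (congrFun hS i) j
    have h2 : σ (g.val i j) = (c⁻¹ : Fˣ).val * g.val j i := congrFun (congrFun hS j) i
    have h3 := congrArg σ h2
    rw [hi, map_mul, h1, ← mul_assoc] at h3
    have h4 : σ ((c⁻¹ : Fˣ).val) * (c⁻¹ : Fˣ).val = 1 :=
      mul_right_cancel₀ hij (h3.symm.trans (one_mul _).symm)
    refine Units.ext ?_
    rw [show (2 : ℕ) = 0 + 1 + 1 from rfl, Finset.prod_range_succ, Finset.prod_range_succ, Finset.prod_range_zero,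
      one_mul]
    rw [Units.val_inv_eq_inv_val, map_inv₀, ← mul_inv, inv_eq_one, mul_comm] at h4
    simpa using h4
  obtain ⟨y, hy⟩ := FieldExt.exists_div_eq σ two_pos (FieldExt.orderOf_invol hi hne) c hcc
  have hherm : ((scal y⁻¹ * g : GLn).val.map σ).transpose = (scal y⁻¹ * g : GLn).val := by
    rw [Units.val_mul, Matrix.GeneralLinearGroup.coe_scalar]
    ext a b
    have h1 : σ (g.val b a) = (c⁻¹ : Fˣ).val * g.val a b := congrFun (congrFun hS a) b
    have h2 : (c : F) * σ (y : F) = y := by simpa using congrArg Units.val hy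
    simp only [Matrix.transpose_apply, Matrix.map_apply, Matrix.scalar_apply, Matrix.diagonal_mul, map_mul, h1,
      Units.val_inv_eq_inv_val, map_inv₀]
    rw [← mul_assoc, ← mul_inv, mul_comm (σ (y : F)), h2]
  obtain ⟨k, hk⟩ := FieldExt.exists_herm_factor σ hi hne _ hherm
  refine ⟨k, ?_⟩
  have hk' : (scal y⁻¹ * g : GLn) = k * (theta σ k)⁻¹ := Units.ext (by rw [Units.val_mul k, theta_inv_val, hk])
  rw [show (conjP g : MulAut PSLn) = conjP (scal y⁻¹ * g) by rw [map_mul, conjP_scalar, one_mul], hk', map_mul,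
    map_inv, mul_assoc, mul_assoc]
  congr 1
  rw [eq_mul_inv_iff_mul_eq, mul_assoc, tau_mul_conjP, ← mul_assoc, inv_mul_cancel, one_mul]

omit [Fintype F] in
theorem star_mul_comm (σ : F ≃+* F) (g : GLn) :
    g.val.transpose * g.val.map σ = 1 ↔ g.val * (g.val.map σ).transpose = 1 := by
  constructor
  · intro h
    have := congrArg Matrix.transpose h
    rw [Matrix.transpose_mul, Matrix.transpose_transpose, Matrix.transpose_one] at this
    exact mul_eq_one_comm.1 this
  · intro h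
    have := congrArg Matrix.transpose (mul_eq_one_comm.1 h)
    rwa [Matrix.transpose_mul, Matrix.transpose_transpose, Matrix.transpose_one] at this

theorem mem_GU_iff {q : ℕ} (hF : Fintype.card F = q ^ 2) (σ : F ≃+* F) (hσ : ∀ a, σ a = a ^ q) (g : GLn) :
    g ∈ Cfsg.GU (m + 1) F q ↔ g.val * (g.val.map σ).transpose = 1 := by
  rw [← star_mul_comm]
  have hq0 : q ≠ 0 := by have := Forms.one_lt_q hF; omega
  have hherm : ∀ u v : Fin (m + 1) → F, hermForm (m + 1) F q u v = u ⬝ᵥ (σ ∘ v) := by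
    intro u v
    simp [hermForm, dotProduct, hσ]
  constructor
  · intro hg
    ext i j
    have h : hermForm (m + 1) F q (g.val *ᵥ Pi.single i 1) (g.val *ᵥ Pi.single j 1)
        = hermForm (m + 1) F q (Pi.single i 1) (Pi.single j 1) := hg _ _
    rw [Matrix.mulVec_single_one, Matrix.mulVec_single_one, hherm, hherm] at h
    rw [Matrix.mul_apply, Matrix.one_apply]
    refine Eq.trans h ?_
    rcases eq_or_ne i j with rfl | hij
    · simp [hσ]
    · simp [hij, hσ, zero_pow hq0]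
  · intro h u v
    show hermForm (m + 1) F q (g.val *ᵥ u) (g.val *ᵥ v) = hermForm (m + 1) F q u v
    have : σ ∘ (g.val *ᵥ v) = g.val.map σ *ᵥ (σ ∘ v) := funext fun i => RingHom.map_mulVec σ.toRingHom _ _ i
    rw [hherm, hherm, this, Matrix.dotProduct_mulVec, ← Matrix.vecMul_transpose, Matrix.vecMul_vecMul, h,
      Matrix.vecMul_one]

/-- `GU → Aut PSL`. -/
def guAut (q : ℕ) : ↥(Cfsg.GU (m + 1) F q) →* MulAut PSLn :=
  conjP.comp (Cfsg.GU (m + 1) F q).subtype

theorem mem_centralizer_tau_iff (hm : 1 ≤ m) (σ : F ≃+* F) (g : GLn) :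
    (conjP g : MulAut PSLn) * (fieldP σ * invP) * (conjP g)⁻¹ = fieldP σ * invP ↔
      ∃ c : Fˣ, g = theta σ g * scal c := by
  rw [mul_inv_eq_iff_eq_mul, tau_mul_conjP, mul_left_inj, conjP_eq_conjP_iff hm]

theorem range_guAut (hm : 1 ≤ m) {q : ℕ} (hF : Fintype.card F = q ^ 2) (σ : F ≃+* F) (hσ : ∀ a, σ a = a ^ q)
    (hi : ∀ a, σ (σ a) = a) (hne : σ ≠ 1) :
    (guAut (m := m) q : ↥(Cfsg.GU (m + 1) F q) →* MulAut PSLn).range =
      Cfsg.inndiagPSL (m + 1) F ⊓ Subgroup.centralizer {fieldP σ * invP} := by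
  ext x
  constructor
  · rintro ⟨g, rfl⟩
    refine ⟨by rw [inndiagPSL_eq_range]; exact ⟨_, rfl⟩, mem_centralizer_singleton.2 ?_⟩
    refine (mem_centralizer_tau_iff hm σ _).2 ⟨1, ?_⟩
    rw [map_one, mul_one, eq_comm, ← _root_.inv_inj]
    refine Units.ext ?_
    rw [theta_inv_val]
    have := (mem_GU_iff hF σ hσ g.1).1 g.2
    exact ((left_inv_eq_right_inv (a := g.1.val) (Units.inv_mul g.1) this)).symm
  · rintro ⟨hx1, hx2⟩
    rw [inndiagPSL_eq_range] at hx1
    obtain ⟨g, rfl⟩ := hx1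
    obtain ⟨c, hc⟩ := (mem_centralizer_tau_iff hm σ g).1 (mem_centralizer_singleton.1 hx2)
    have hgg : g.val * (g.val.map σ).transpose = (c : F) • (1 : Matrix (Fin (m + 1)) (Fin (m + 1)) F) := by
      rw [← theta_inv_val, ← Units.val_mul]
      rw [show g * (theta σ g)⁻¹ = scal c by
        rw [mul_inv_eq_iff_eq_mul, scalar_commutes]; exact hc]
      simp [Matrix.GeneralLinearGroup.coe_scalar, Matrix.smul_one_eq_diagonal]
    have hcfix : σ (c : F) = c := by
      have h1 := congrArg (fun M : Matrix (Fin (m + 1)) (Fin (m + 1)) F => σ (M 0 0)) hgg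
      have h2 := congrArg (fun M : Matrix (Fin (m + 1)) (Fin (m + 1)) F => M 0 0) hgg
      simp [Matrix.mul_apply, hi] at h1 h2
      rw [← h1, ← h2]
      exact Finset.sum_congr rfl fun i _ => mul_comm _ _
    obtain ⟨z, hz⟩ := FieldExt.exists_norm_invol σ hi hne c hcfix
    refine ⟨⟨g * scal z⁻¹, (mem_GU_iff hF σ hσ _).2 ?_⟩, ?_⟩
    · have hs : (g * scal z⁻¹ : GLn).val = (z : F)⁻¹ • g.val := by
        ext a b
        rw [Units.val_mul, Matrix.GeneralLinearGroup.coe_scalar, Matrix.scalar_apply, Matrix.mul_diagonal,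
          Matrix.smul_apply, Units.val_inv_eq_inv_val, smul_eq_mul, mul_comm]
      rw [hs, Matrix.map_smul' σ _ _ (fun a b => map_mul σ a b), Matrix.transpose_smul, Matrix.smul_mul,
        Matrix.mul_smul, smul_smul, hgg, smul_smul, map_inv₀, ← mul_inv, hz,
        inv_mul_cancel₀ c.ne_zero, one_smul]
    · show conjP (g * scal z⁻¹) = conjP g
      rw [map_mul, conjP_scalar, mul_one]

theorem ker_guAut (hm : 1 ≤ m) (q : ℕ) :
    (guAut (m := m) q : ↥(Cfsg.GU (m + 1) F q) →* MulAut PSLn).ker =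
      (Cfsg.Geo.scalars (Fin (m + 1)) F).subgroupOf (Cfsg.GU (m + 1) F q) := by
  ext g
  rw [MonoidHom.mem_ker, Subgroup.mem_subgroupOf, guAut, MonoidHom.comp_apply, conjP_eq_one_iff hm]
  exact ⟨fun ⟨c, hc⟩ => ⟨c, hc.symm⟩, fun ⟨c, hc⟩ => ⟨c, hc.symm⟩⟩

/-- `C_{PGL_n}(graph-field) ≅ PGU_n`. -/
noncomputable def centralizerTauEquiv (hm : 1 ≤ m) {q : ℕ} (hF : Fintype.card F = q ^ 2) (σ : F ≃+* F)
    (hσ : ∀ a, σ a = a ^ q) (hi : ∀ a, σ (σ a) = a) (hne : σ ≠ 1) :
    ↥(Cfsg.inndiagPSL (m + 1) F ⊓ Subgroup.centralizer {fieldP σ * invP}) ≃* Cfsg.PGU (m + 1) F q :=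
  (MulEquiv.subgroupCongr (range_guAut hm hF σ hσ hi hne).symm).trans <|
    (QuotientGroup.quotientKerEquivRange _).symm.trans (QuotientGroup.quotientMulEquivOfEq (ker_guAut hm q))

theorem split_tau (hm : 1 ≤ m) {q : ℕ} (hF : Fintype.card F = q ^ 2) (σ : F ≃+* F)
    (hσ : ∀ a, σ a = a ^ q) (hi : ∀ a, σ (σ a) = a) (hne : σ ≠ 1) :
    Cfsg.splitClassCount (Cfsg.inndiagPSL (m + 1) F) (Cfsg.Inn PSLn) (fieldP σ * invP) = Nat.gcd (m + 1) (q - 1) := by
  classical
  rw [splitClassCount_eq _ _ inn_le_inndiag, ← range_guAut hm hF σ hσ hi hne]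
  set S := Cfsg.Inn PSLn ⊔ (guAut (m := m) q : ↥(Cfsg.GU (m + 1) F q) →* MulAut PSLn).range
  have hscal : ∀ u : Fˣ, Matrix.GeneralLinearGroup.det (scal u : GLn) = u ^ (m + 1) := fun u => Units.ext (by
    simp [Matrix.GeneralLinearGroup.coe_scalar])
  have hcomap : S.comap conjP =
      ((powMonoidHom (m + 1) : Fˣ →* Fˣ).range ⊔ (Forms.guDet (m + 1) F q).range).comap
        (Matrix.GeneralLinearGroup.det : GLn →* Fˣ) := by
    ext g
    rw [Subgroup.mem_comap, Subgroup.mem_comap]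
    constructor
    · intro hg
      rw [Subgroup.mem_sup_of_normal_left] at hg
      obtain ⟨a, ha, _, ⟨b, rfl⟩, he⟩ := hg
      obtain ⟨x, rfl⟩ : ∃ x, conjP x = a :=
        MonoidHom.mem_range.1 (by rw [← inndiagPSL_eq_range]; exact inn_le_inndiag ha)
      obtain ⟨z, rfl⟩ := (conjP_eq_conjP_iff hm g (x * b.1)).1 (by rw [map_mul]; exact he.symm)
      obtain ⟨w, hw⟩ := (conjP_mem_inn_iff hm x).1 ha
      simp only [map_mul, hscal, hw]
      exact Subgroup.mul_mem _ (Subgroup.mul_mem _ (Subgroup.mem_sup_left ⟨w, rfl⟩)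
        (Subgroup.mem_sup_right ⟨b, rfl⟩)) (Subgroup.mem_sup_left ⟨z, rfl⟩)
    · intro hg
      rw [Subgroup.mem_sup] at hg
      obtain ⟨_, ⟨w, rfl⟩, _, ⟨b, rfl⟩, he⟩ := hg
      have hinn : (conjP (g * b.1⁻¹) : MulAut PSLn) ∈ Cfsg.Inn PSLn :=
        (conjP_mem_inn_iff hm _).2 ⟨w, by
          rw [map_mul, map_inv, ← he, show Matrix.GeneralLinearGroup.det b.1 = Forms.guDet (m + 1) F q b from rfl,
            mul_inv_cancel_right]
          rfl⟩
      have h := Subgroup.mul_mem S (Subgroup.mem_sup_left hinn) (Subgroup.mem_sup_right ⟨b, rfl⟩)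
      rwa [show guAut (m := m) q b = conjP b.1 from rfl, ← map_mul, inv_mul_cancel_right] at h
  have hu := Forms.units_card hF
  have hq := Forms.one_lt_q hF
  have hker : (powMonoidHom (q + 1) : Fˣ →* Fˣ).ker = (powMonoidHom (q - 1)).range := by
    refine (Subgroup.eq_of_le_of_card_ge ?_ (le_of_eq ?_)).symm
    · rintro _ ⟨u, rfl⟩
      rw [MonoidHom.mem_ker, powMonoidHom_apply, powMonoidHom_apply, ← pow_mul, mul_comm, ← hu, pow_card_eq_one']
    · rw [Forms.card_norm_kernel hF, IsCyclic.card_powMonoidHom_range, hu,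
        Nat.gcd_eq_right (dvd_mul_left _ _), Nat.mul_div_cancel _ (by omega)]
  rw [inndiagPSL_eq_range, ← Subgroup.index_comap, hcomap,
    Subgroup.index_comap_of_surjective _ Matrix.GeneralLinearGroup.det_surjective,
    Forms.range_guDet hF (by omega), hker, sup_range_pow, IsCyclic.index_powMonoidHom_range, hu]
  exact Nat.gcd_eq_right ((Nat.gcd_dvd_right _ _).trans (dvd_mul_left _ _))

/-- The involutive automorphism of a finite field is unique. -/
theorem invol_unique {σ ρ : F ≃+* F} (hi : ∀ a, σ (σ a) = a) (hne : σ ≠ 1) (hi' : ∀ a, ρ (ρ a) = a) (hne' : ρ ≠ 1) :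
    ρ = σ := by
  classical
  -- the fixed fields are both `{x | x ^ q = x}`
  have hc : ∀ {τ : F ≃+* F}, (∀ a, τ (τ a) = a) → τ ≠ 1 →
      Nat.card (FieldExt.fixedField τ) ^ 2 = Fintype.card F ∧
        ∀ a, τ a = a ↔ a ^ Nat.card (FieldExt.fixedField τ) = a := by
    intro τ h1 h2
    have e := FieldExt.card_fixedField_pow τ
    rw [FieldExt.orderOf_invol h1 h2] at e
    refine ⟨e, fun a => ?_⟩
    haveI : Fintype (FieldExt.fixedField τ) := Fintype.ofFinite _
    rw [← FieldExt.mem_fixedField, Nat.card_eq_fintype_card]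
    have hsub : (Set.toFinset (FieldExt.fixedField τ : Set F)) = (Polynomial.X ^ Fintype.card (FieldExt.fixedField τ) - Polynomial.X : Polynomial F).roots.toFinset := by
      refine Finset.eq_of_subset_of_card_le (fun b hb => ?_) ?_
      · rw [Multiset.mem_toFinset, Polynomial.mem_roots (FiniteField.X_pow_card_sub_X_ne_zero F Fintype.one_lt_card)]
        have := congrArg Subtype.val (FiniteField.pow_card (⟨b, by simpa using hb⟩ : FieldExt.fixedField τ))
        simpa [sub_eq_zero] using this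
      · refine (Multiset.toFinset_card_le _).trans ((Polynomial.card_roots' _).trans ?_)
        rw [FiniteField.X_pow_card_sub_X_natDegree_eq F Fintype.one_lt_card, Set.toFinset_card]
        exact le_rfl
    have h3 := congrArg (fun S : Finset F => a ∈ S) hsub
    simpa [Polynomial.mem_roots, FiniteField.X_pow_card_sub_X_ne_zero F Fintype.one_lt_card, sub_eq_zero] using h3
  obtain ⟨e1, f1⟩ := hc hi hne
  obtain ⟨e2, f2⟩ := hc hi' hne'
  have hq : Nat.card (FieldExt.fixedField ρ) = Nat.card (FieldExt.fixedField σ) :=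
    Nat.pow_left_injective two_ne_zero (e2.trans e1.symm)
  have hfix : ∀ a, ρ a = a ↔ σ a = a := fun a => by rw [f1, f2, hq]
  obtain ⟨a, ha⟩ : ∃ a, σ a ≠ a := by
    by_contra h
    push Not at h
    exact hne (RingEquiv.ext h)
  have hd : a - σ a ≠ 0 := sub_ne_zero.2 (Ne.symm ha)
  have hroot : (ρ a - a) * (ρ a - σ a) = 0 := by
    have h1 : ρ (a + σ a) = a + σ a := (hfix _).2 (by rw [map_add, hi, add_comm])
    have h2 : ρ (a * σ a) = a * σ a := (hfix _).2 (by rw [map_mul, hi, mul_comm])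
    rw [map_add] at h1
    rw [map_mul] at h2
    linear_combination (ρ a) * h1 - h2
  rcases mul_eq_zero.1 hroot with h | h
  · exact absurd ((hfix a).1 (sub_eq_zero.1 h)) ha
  · have hρa : ρ a = σ a := sub_eq_zero.1 h
    refine RingEquiv.ext fun x => ?_
    have hv : σ ((x - σ x) / (a - σ a)) = (x - σ x) / (a - σ a) := by
      rw [map_div₀, map_sub, map_sub, hi, hi, ← neg_sub x, ← neg_sub a, neg_div_neg_eq]
    have hu : σ (x - (x - σ x) / (a - σ a) * a) = x - (x - σ x) / (a - σ a) * a := by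
      rw [map_sub, map_mul, hv]
      field_simp
      ring
    have hv' := (hfix _).2 hv
    have hu' := (hfix _).2 hu
    rw [map_sub, map_mul, hv', hρa] at hu'
    have hu'' : σ x - (x - σ x) / (a - σ a) * σ a = x - (x - σ x) / (a - σ a) * a := by
      rw [map_sub, map_mul, hv] at hu; exact hu
    linear_combination hu' - hu''

/-- Any automorphism conjugates `φ_σ ι` inside its inner-diagonal class. -/
theorem conj_tau (hm : 1 ≤ m) (σ : F ≃+* F) (hi : ∀ a, σ (σ a) = a) (hne : σ ≠ 1) (γ : MulAut PSLn) :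
    ∃ k : GLn, γ * (fieldP σ * invP) * γ⁻¹ = conjP k * (fieldP σ * invP) * (conjP k)⁻¹ := by
  classical
  obtain ⟨g, ρ, e, he, rfl⟩ := exists_decomposition hm γ
  refine ⟨g, ?_⟩
  have he' : e * (fieldP σ * invP) * e⁻¹ = fieldP σ * invP := by
    rcases he with rfl | rfl
    · simp
    · rw [← mul_assoc, invP_mul_fieldP, mul_inv_cancel_right]
  have hρσ : ρ * σ * ρ⁻¹ = σ := by
    refine invol_unique hi hne (fun a => ?_) (fun h => hne ?_)
    · show ρ (σ (ρ.symm (ρ (σ (ρ.symm a))))) = a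
      rw [ρ.symm_apply_apply, hi, ρ.apply_symm_apply]
    · rw [mul_inv_eq_one, mul_eq_left] at h
      exact h
  calc conjP g * fieldP ρ * e * (fieldP σ * invP) * (conjP g * fieldP ρ * e)⁻¹
      = conjP g * (fieldP ρ * (e * (fieldP σ * invP) * e⁻¹) * (fieldP ρ)⁻¹) * (conjP g)⁻¹ := by group
    _ = conjP g * (fieldP σ * invP) * (conjP g)⁻¹ := by
      have h1 : (fieldP ρ : MulAut PSLn) * fieldP σ = fieldP σ * fieldP ρ := by
        rw [show (fieldP ρ : MulAut PSLn) * fieldP σ = fieldP (ρ * σ) from (map_mul (fieldPHom (m := m)) _ _).symm,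
          show (fieldP σ : MulAut PSLn) * fieldP ρ = fieldP (σ * ρ) from (map_mul (fieldPHom (m := m)) _ _).symm,
          ← mul_inv_eq_iff_eq_mul.1 hρσ]
      have h2 : (fieldP ρ : MulAut PSLn) * (fieldP σ * invP) = (fieldP σ * invP) * fieldP ρ := by
        rw [← mul_assoc, h1, mul_assoc, mul_assoc, invP_mul_fieldP]
      rw [he', h2, mul_inv_cancel_right]

/-- An element conjugate to a standard graph-field automorphism. -/
theorem exists_std_of_graphFieldClass {x : MulAut PSLn} (hx : Cfsg.IsGraphFieldAutClassPSL x) :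
    2 ≤ m ∧ ∃ (α : MulAut PSLn) (σ : F ≃+* F), σ ≠ 1 ∧ x = α * (fieldP σ * invP) * α⁻¹ := by
  obtain ⟨hn, α, φ, γ, σ, hσ, hφ, hγ, he⟩ := hx
  refine ⟨by omega, α⁻¹, σ, hσ, ?_⟩
  rw [← eq_fieldP hφ, ← eq_invP hγ, ← he]
  group

end Cfsg.Agent.AutPSL
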