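import Cfsg.Agent.Lib.AutPSL.Main
import Cfsg.Agent.Lib.Field.Descent

/-!
The group structure of `Aut(PSL_n)`: kernel of `conjP`, commutation rules, normality of the inner-diagonal part.
-/

set_option autoImplicit false

open Matrix
open scoped MatrixGroups

namespace Cfsg.Agent.AutPSL

variable {m : ℕ} {F : Type*} [Field F]

local notation "SLn" => Matrix.SpecialLinearGroup (Fin (m + 1)) F
local notation "PSLn" => Matrix.ProjectiveSpecialLinearGroup (Fin (m + 1)) F
local notation "GLn" => GL (Fin (m + 1)) F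

theorem mulAut_ext_xel {a b : MulAut PSLn} (h : ∀ i j (hij : i ≠ j) t, a (xel i j hij t) = b (xel i j hij t)) :
    a = b :=
  MulEquiv.ext fun x => DFunLike.congr_fun
    (hom_ext_xel (a : PSLn ≃* PSLn).toMonoidHom (b : PSLn ≃* PSLn).toMonoidHom h) x

/-- Inverse transpose on `GL`. -/
def glIT (g : GLn) : GLn :=
  ⟨(g⁻¹ : GLn).val.transpose, g.val.transpose,
    by rw [← Matrix.transpose_mul, Units.mul_inv, Matrix.transpose_one],
    by rw [← Matrix.transpose_mul, Units.inv_mul, Matrix.transpose_one]⟩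

theorem glIT_val (g : GLn) : (glIT g).val = (g⁻¹ : GLn).val.transpose := rfl

theorem glIT_inv_val (g : GLn) : ((glIT g)⁻¹ : GLn).val = g.val.transpose := rfl

theorem glIT_mul (g h : GLn) : glIT (g * h) = glIT g * glIT h :=
  Units.ext (by simp [glIT_val, Units.val_mul, Matrix.transpose_mul])

theorem glIT_glIT (g : GLn) : glIT (glIT g) = g :=
  Units.ext (by rw [glIT_val, glIT_inv_val, Matrix.transpose_transpose])

theorem invP_mul_conjP (g : GLn) : (invP : MulAut PSLn) * conjP g = conjP (glIT g) * invP := by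
  rw [invP, conjP, MonoidHom.comp_apply, MonoidHom.comp_apply, ← map_mul, ← map_mul]
  refine congrArg autQ (MulEquiv.ext fun s => Subtype.ext ?_)
  have h1 : (conjSL g s)⁻¹ = conjSL g s⁻¹ := (map_inv _ s).symm
  show ((conjSL g s)⁻¹ : SLn).1.transpose = (conjSL (glIT g) (invT s)).1
  rw [h1, conjSL_coe, conjSL_coe, invT_coe, glIT_val, glIT_inv_val, Matrix.transpose_mul, Matrix.transpose_mul,
    Matrix.mul_assoc]

theorem fieldP_mul_conjP (σ : F ≃+* F) (g : GLn) :
    (fieldP σ : MulAut PSLn) * conjP g = conjP (FieldExt.glMap σ g) * fieldP σ := by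
  rw [fieldP, conjP, MonoidHom.comp_apply, MonoidHom.comp_apply, ← map_mul, ← map_mul]
  refine congrArg autQ (MulEquiv.ext fun s => Subtype.ext ?_)
  show ((conjSL g s).1).map σ = (conjSL (FieldExt.glMap σ g) (fieldSL σ s)).1
  rw [conjSL_coe, conjSL_coe, fieldSL_coe, ← map_inv, FieldExt.glMap_val, FieldExt.glMap_val,
    Matrix.map_mul, Matrix.map_mul]

theorem invP_mul_fieldP (σ : F ≃+* F) : (invP : MulAut PSLn) * fieldP σ = fieldP σ * invP := by
  rw [invP, fieldP, ← map_mul, ← map_mul]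
  refine congrArg autQ (MulEquiv.ext fun s => Subtype.ext ?_)
  have h1 : (fieldSL σ s)⁻¹ = fieldSL σ s⁻¹ := (map_inv (fieldSL σ) s).symm
  show ((fieldSL σ s)⁻¹ : SLn).1.transpose = (fieldSL σ (invT s)).1
  rw [h1, fieldSL_coe, fieldSL_coe, invT_coe, Matrix.transpose_map]

/-- The standard field automorphisms as a homomorphism. -/
def fieldPHom : (F ≃+* F) →* MulAut PSLn where
  toFun := fieldP
  map_one' := mulAut_ext_xel fun i j hij t => by rw [fieldP_xel]; rfl
  map_mul' σ τ := mulAut_ext_xel fun i j hij t => by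
    rw [MulAut.mul_apply, fieldP_xel, fieldP_xel, fieldP_xel]; rfl

theorem fieldP_pow (σ : F ≃+* F) (k : ℕ) : (fieldP σ : MulAut PSLn) ^ k = fieldP (σ ^ k) :=
  (map_pow (fieldPHom (m := m)) σ k).symm

theorem fieldP_one : (fieldP (1 : F ≃+* F) : MulAut PSLn) = 1 := map_one (fieldPHom (m := m))

theorem conjP_mul_fieldP_pow (σ : F ≃+* F) (g : GLn) (k : ℕ) :
    (conjP g * fieldP σ : MulAut PSLn) ^ k = conjP (FieldExt.twistNorm σ g k) * fieldP (σ ^ k) := by
  induction k with
  | zero => rw [pow_zero, pow_zero, FieldExt.twistNorm_zero, map_one, fieldP_one, one_mul]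
  | succ k ih =>
    rw [pow_succ', ih, FieldExt.twistNorm_succ, map_mul, pow_succ', show (fieldP (σ * σ ^ k) : MulAut PSLn) =
      fieldP σ * fieldP (σ ^ k) from map_mul (fieldPHom (m := m)) _ _]
    rw [mul_assoc (conjP g), ← mul_assoc (fieldP σ), fieldP_mul_conjP]
    simp only [mul_assoc]

theorem scalar_commutes (c : Fˣ) (g : GLn) :
    Matrix.GeneralLinearGroup.scalar (Fin (m + 1)) c * g = g * Matrix.GeneralLinearGroup.scalar (Fin (m + 1)) c := by
  refine Units.ext ?_
  ext i j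
  simp [Matrix.GeneralLinearGroup.coe_scalar, Matrix.diagonal_mul, Matrix.mul_diagonal, mul_comm]

theorem conjP_scalar (c : Fˣ) :
    (conjP (Matrix.GeneralLinearGroup.scalar (Fin (m + 1)) c) : MulAut PSLn) = 1 := by
  refine MulEquiv.ext fun x => ?_
  induction x using QuotientGroup.induction_on with
  | _ s =>
    rw [conjP_mk]
    refine congrArg QuotientGroup.mk ?_
    refine Subtype.ext ?_
    rw [conjSL_coe]
    have := congrArg Units.val (scalar_commutes (m := m) c (Matrix.SpecialLinearGroup.toGL s))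
    simp only [Units.val_mul] at this
    rw [show (s : Matrix (Fin (m + 1)) (Fin (m + 1)) F) = (Matrix.SpecialLinearGroup.toGL s).val from rfl, this,
      Matrix.mul_assoc, Units.mul_inv, Matrix.mul_one]

section Finite

variable [Fintype F]

theorem exists_scalar_of_fix (hm : 1 ≤ m) (g : GLn)
    (h : ∀ i j (hij : i ≠ j), (conjP g : MulAut PSLn) (xel i j hij 1) = xel i j hij 1) :
    ∃ c : Fˣ, g = Matrix.GeneralLinearGroup.scalar (Fin (m + 1)) c := by
  have hc : ∀ i j : Fin (m + 1), i ≠ j → Commute (Matrix.single i j (1 : F)) g.val := by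
    intro i j hij
    have e := h i j hij
    rw [xel, conjP_mk, ← tv_single hij 1 (dot_smul_zero (dot_single hij) 1),
      conjSL_tv g _ (dot_conj g (dot_smul_zero (dot_single hij) 1))] at e
    have e' := mk_tv_inj e
    rw [← Matrix.mul_vecMulVec, ← Matrix.vecMulVec_mul, ← single_eq_vecMulVec] at e'
    have e'' := congrArg (fun M => M * g.val) e'
    simp only [Matrix.mul_assoc, Units.inv_mul, Matrix.mul_one] at e''
    exact e''.symm
  obtain ⟨c, hc⟩ := Matrix.mem_range_scalar_of_commute_single (fun i j hij => hc i j hij)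
  have hc0 : c ≠ 0 := by
    intro h0
    have hd := (Matrix.isUnit_iff_isUnit_det _).1 g.isUnit
    rw [← hc, h0, map_zero, Matrix.det_zero] at hd
    exact not_isUnit_zero hd
  exact ⟨Units.mk0 c hc0, Units.ext hc.symm⟩

theorem conjP_eq_one_iff (hm : 1 ≤ m) (g : GLn) :
    (conjP g : MulAut PSLn) = 1 ↔ ∃ c : Fˣ, g = Matrix.GeneralLinearGroup.scalar (Fin (m + 1)) c := by
  refine ⟨fun h => exists_scalar_of_fix hm g fun i j hij => by rw [h]; rfl, ?_⟩
  rintro ⟨c, rfl⟩
  exact conjP_scalar c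

theorem conjP_eq_conjP_iff (hm : 1 ≤ m) (g h : GLn) :
    (conjP g : MulAut PSLn) = conjP h ↔ ∃ c : Fˣ, g = h * Matrix.GeneralLinearGroup.scalar (Fin (m + 1)) c := by
  rw [← inv_mul_eq_one, ← map_inv, ← map_mul, conjP_eq_one_iff hm]
  constructor
  · rintro ⟨c, hc⟩
    refine ⟨c⁻¹, ?_⟩
    rw [inv_mul_eq_iff_eq_mul] at hc
    rw [hc, mul_assoc, ← map_mul, mul_inv_cancel, map_one, mul_one]
  · rintro ⟨c, rfl⟩
    refine ⟨c⁻¹, ?_⟩
    rw [_root_.mul_inv_rev, mul_assoc, inv_mul_cancel, mul_one, map_inv]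

theorem fieldP_eq_conjP (hm : 1 ≤ m) {σ : F ≃+* F} {g : GLn} (h : (fieldP σ : MulAut PSLn) = conjP g) :
    σ = 1 := by
  have hfix : (conjP g : MulAut PSLn) = 1 := (conjP_eq_one_iff hm g).2 <| exists_scalar_of_fix hm g fun i j hij => by
    rw [← h, fieldP_xel, map_one]
  rw [hfix] at h
  have hij : (0 : Fin (m + 1)) ≠ ⟨1, by omega⟩ := by simp [Fin.ext_iff]
  refine RingEquiv.ext fun t => ?_
  have := MulEquiv.congr_fun h (xel 0 _ hij t)
  rw [fieldP_xel] at this
  exact xel_injective hij this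

theorem fieldP_injective (hm : 1 ≤ m) : Function.Injective (fieldP : (F ≃+* F) → MulAut PSLn) :=
  (injective_iff_map_eq_one (fieldPHom (m := m))).2 fun σ h => fieldP_eq_conjP hm (g := 1) (by
    rw [map_one]; exact h)

theorem orderOf_fieldP (hm : 1 ≤ m) (σ : F ≃+* F) : orderOf (fieldP σ : MulAut PSLn) = orderOf σ :=
  orderOf_injective (fieldPHom (m := m)) (fieldP_injective hm) σ

/-- For `n ≥ 3` inverse-transpose is not semilinear. -/
theorem invP_ne (hm : 2 ≤ m) (g : GLn) (σ : F ≃+* F) : (invP : MulAut PSLn) ≠ conjP g * fieldP σ := by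
  intro h
  have hfield : ∀ i j (hij : i ≠ j), (root (Pi.single i 1) (Pi.single j 1) (dot_single (F := F) hij)).map
      (fieldP σ : PSLn ≃* PSLn).toMonoidHom = root (Pi.single i 1) (Pi.single j 1) (dot_single hij) := by
    intro i j hij
    ext x
    obtain ⟨y, rfl⟩ := (fieldP σ : MulAut PSLn).surjective x
    rw [Subgroup.mem_map_equiv, MulEquiv.symm_apply_apply, mem_root_single hij, mem_root_single hij]
    constructor
    · rintro ⟨t, rfl⟩
      exact ⟨σ t, fieldP_xel σ hij t⟩
    · rintro ⟨t, ht⟩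
      refine ⟨σ.symm t, (fieldP σ : MulAut PSLn).injective ?_⟩
      rw [ht, fieldP_xel, RingEquiv.apply_symm_apply]
  have key : ∀ j (hj : (0 : Fin (m + 1)) ≠ j), Par (g.val *ᵥ Pi.single 0 1) (Pi.single j 1) := by
    intro j hj
    have h1 := invP_root (F := F) hj
    rw [h, show ((conjP g * fieldP σ : MulAut PSLn) : PSLn ≃* PSLn).toMonoidHom =
      (conjP g : PSLn ≃* PSLn).toMonoidHom.comp (fieldP σ : PSLn ≃* PSLn).toMonoidHom from rfl,
      ← Subgroup.map_map, hfield 0 j hj, map_conjP_root] at h1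
    refine (root_inj ?_ ?_ h1).1
    · intro e
      have := congrArg (fun v => (g⁻¹ : GLn).val *ᵥ v) e
      simp only [Matrix.mulVec_mulVec, Units.inv_mul, Matrix.one_mulVec, Matrix.mulVec_zero] at this
      simpa using congrFun this 0
    · intro e
      have := congrArg (fun v => v ᵥ* g.val) e
      simp only [Matrix.vecMul_vecMul, Units.inv_mul, Matrix.vecMul_one, Matrix.zero_vecMul] at this
      simpa using congrFun this j
  have h1 := (key ⟨1, by omega⟩ (by simp [Fin.ext_iff])).symm.trans (key ⟨2, by omega⟩ (by simp [Fin.ext_iff]))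
  simpa [Fin.ext_iff] using par_single h1

theorem inndiag_normal (hm : 1 ≤ m) : (Cfsg.inndiagPSL (m + 1) F).Normal := by
  classical
  rw [inndiagPSL_eq_range]
  refine ⟨?_⟩
  rintro _ ⟨h, rfl⟩ β
  obtain ⟨g, σ, γ, hγ, rfl⟩ := exists_decomposition hm β
  have h1 : ∀ k : GLn, conjP g * fieldP σ * conjP k * (conjP g * fieldP σ)⁻¹ =
      (conjP (g * FieldExt.glMap σ k * g⁻¹) : MulAut PSLn) := by
    intro k
    rw [mul_assoc (conjP g), fieldP_mul_conjP, map_mul, map_mul, map_inv]
    group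
  rcases hγ with rfl | rfl
  · exact ⟨_, by rw [mul_one]; exact (h1 h).symm⟩
  · refine ⟨_, Eq.trans (h1 (glIT h)).symm ?_⟩
    rw [_root_.mul_inv_rev, mul_assoc _ (invP : MulAut PSLn) (conjP h), invP_mul_conjP]
    group

theorem inn_le_inndiag : Cfsg.Inn PSLn ≤ Cfsg.inndiagPSL (m + 1) F := by
  rintro _ ⟨x, rfl⟩
  obtain ⟨s, rfl⟩ := QuotientGroup.mk_surjective x
  rw [inndiagPSL_eq_range]
  exact ⟨Matrix.SpecialLinearGroup.toGL s, conjP_toGL s⟩

/-- The inner automorphisms inside `PGL`. -/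
theorem conjP_mem_inn_iff (hm : 1 ≤ m) (g : GLn) :
    (conjP g : MulAut PSLn) ∈ Cfsg.Inn PSLn ↔
      ∃ c : Fˣ, Matrix.GeneralLinearGroup.det g = c ^ (m + 1) := by
  constructor
  · rintro ⟨x, hx⟩
    obtain ⟨s, rfl⟩ := QuotientGroup.mk_surjective x
    rw [← conjP_toGL] at hx
    obtain ⟨c, rfl⟩ := (conjP_eq_conjP_iff hm g _).1 hx.symm
    refine ⟨c, ?_⟩
    rw [map_mul, show Matrix.GeneralLinearGroup.det (Matrix.SpecialLinearGroup.toGL s) = 1 from Units.ext s.2,
      one_mul]
    refine Units.ext ?_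
    simp [Matrix.GeneralLinearGroup.val_det_apply, Matrix.GeneralLinearGroup.coe_scalar]
  · rintro ⟨c, hc⟩
    let g' := g * Matrix.GeneralLinearGroup.scalar (Fin (m + 1)) c⁻¹
    have hdet : g'.val.det = 1 := by
      have : Matrix.GeneralLinearGroup.det g' = 1 := by
        rw [map_mul, hc]
        refine Units.ext ?_
        simp [Matrix.GeneralLinearGroup.val_det_apply, Matrix.GeneralLinearGroup.coe_scalar, ← mul_pow]
      exact congrArg Units.val this
    let s : SLn := ⟨g'.val, hdet⟩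
    refine ⟨QuotientGroup.mk s, ?_⟩
    rw [← conjP_toGL s]
    refine Eq.trans (congrArg conjP (Units.ext rfl : Matrix.SpecialLinearGroup.toGL s = g')) ?_
    exact (conjP_eq_conjP_iff hm g' g).2 ⟨c⁻¹, rfl⟩

end Finite

end Cfsg.Agent.AutPSL
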