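import Cfsg.Agent.Lib.AutPSL.Center

/-!
Every automorphism of `PSL_n` over a finite field is a product of an inner-diagonal automorphism, a standard field
automorphism and possibly the inverse-transpose automorphism.
-/

set_option autoImplicit false

open Matrix
open scoped MatrixGroups commutatorElement

namespace Cfsg.Agent.AutPSL

variable {m : ℕ} {F : Type*} [Field F]

local notation "SLn" => Matrix.SpecialLinearGroup (Fin (m + 1)) F
local notation "PSLn" => Matrix.ProjectiveSpecialLinearGroup (Fin (m + 1)) F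
local notation "Vn" => Fin (m + 1) → F

/-- The elementary root element in `PSL`. -/
def xel (i j : Fin (m + 1)) (hij : i ≠ j) (t : F) : PSLn :=
  QuotientGroup.mk (Matrix.SpecialLinearGroup.transvection hij t)

theorem single_eq_vecMulVec (i j : Fin (m + 1)) (t : F) :
    Matrix.single i j t = vecMulVec (t • (Pi.single i 1 : Vn)) (Pi.single j 1) := by
  ext a b
  rw [vecMulVec_apply, Pi.smul_apply, smul_eq_mul]
  by_cases ha : a = i <;> by_cases hb : b = j <;> simp [ha, hb, Ne.symm]

theorem dot_single {i j : Fin (m + 1)} (hij : i ≠ j) : (Pi.single j 1 : Vn) ⬝ᵥ Pi.single i 1 = 0 := by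
  simp [hij]

theorem tv_single {i j : Fin (m + 1)} (hij : i ≠ j) (t : F) (h : (Pi.single j 1 : Vn) ⬝ᵥ (t • Pi.single i 1) = 0) :
    tv (t • Pi.single i 1) (Pi.single j 1) h = Matrix.SpecialLinearGroup.transvection hij t :=
  Subtype.ext (by rw [tv_coe, Matrix.SpecialLinearGroup.transvection_coe, single_eq_vecMulVec])

theorem mem_root_single {i j : Fin (m + 1)} (hij : i ≠ j) {x : PSLn} :
    x ∈ root (Pi.single i 1) (Pi.single j 1) (dot_single hij) ↔ ∃ t, x = xel i j hij t := by
  constructor
  · rintro ⟨t, rfl⟩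
    exact ⟨t.toAdd, congrArg QuotientGroup.mk (tv_single hij _ _)⟩
  · rintro ⟨t, rfl⟩
    exact ⟨Multiplicative.ofAdd t, congrArg QuotientGroup.mk (tv_single hij _ _)⟩

theorem conjP_diag_xel (d : Fin (m + 1) → Fˣ) {i j : Fin (m + 1)} (hij : i ≠ j) (t : F) :
    conjP (GL.diagHom d) (xel i j hij t : PSLn) = xel i j hij ((d i : F) * t * ((d j)⁻¹ : Fˣ)) := by
  rw [xel, xel, conjP_mk]
  refine congrArg QuotientGroup.mk (Subtype.ext ?_)
  rw [conjSL_coe, Matrix.SpecialLinearGroup.transvection_coe, Matrix.SpecialLinearGroup.transvection_coe,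
    ← map_inv, GL.coe_diagHom, GL.coe_diagHom, mul_add, add_mul, mul_one]
  congr 1
  · rw [Matrix.diagonal_mul_diagonal, ← Matrix.diagonal_one]
    congr 1
    ext k
    simp
  · ext a b
    rw [Matrix.mul_diagonal, Matrix.diagonal_mul]
    by_cases ha : i = a
    · by_cases hb : j = b
      · subst ha; subst hb; simp
      · simp [Matrix.single_apply, hb]
    · simp [Matrix.single_apply, ha]

theorem fieldP_xel (σ : F ≃+* F) {i j : Fin (m + 1)} (hij : i ≠ j) (t : F) :
    fieldP σ (xel i j hij t : PSLn) = xel i j hij (σ t) := by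
  rw [xel, xel, fieldP_mk]
  refine congrArg QuotientGroup.mk (Subtype.ext ?_)
  rw [fieldSL_coe, Matrix.SpecialLinearGroup.transvection_coe, Matrix.SpecialLinearGroup.transvection_coe,
    Matrix.map_add σ (fun a b => map_add σ a b), Matrix.map_one σ (map_zero σ) (map_one σ), Matrix.map_single]

theorem invP_root {i j : Fin (m + 1)} (hij : i ≠ j) :
    (root (Pi.single i 1) (Pi.single j 1) (dot_single (F := F) hij)).map (invP : PSLn ≃* PSLn).toMonoidHom =
      root (Pi.single j 1) (Pi.single i 1) (dot_single hij.symm) := by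
  have key : ∀ t : F, (invP : MulAut PSLn) (xel i j hij t) = xel j i hij.symm (-t) := by
    intro t
    rw [xel, xel, invP_mk]
    refine congrArg QuotientGroup.mk (Subtype.ext ?_)
    rw [invT_coe, Matrix.SpecialLinearGroup.transvection_inv, Matrix.SpecialLinearGroup.transvection_coe,
      Matrix.SpecialLinearGroup.transvection_coe, Matrix.transpose_add, Matrix.transpose_one, Matrix.transpose_single]
  ext x
  obtain ⟨y, rfl⟩ := (invP : MulAut PSLn).surjective x
  rw [Subgroup.mem_map_equiv, MulEquiv.symm_apply_apply, mem_root_single hij, mem_root_single hij.symm]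
  constructor
  · rintro ⟨t, rfl⟩
    exact ⟨-t, key t⟩
  · rintro ⟨t, ht⟩
    refine ⟨-t, (invP : MulAut PSLn).injective ?_⟩
    rw [ht, key, neg_neg]

theorem xel_mul {i j : Fin (m + 1)} (hij : i ≠ j) (s t : F) :
    (xel i j hij (s + t) : PSLn) = xel i j hij s * xel i j hij t := by
  rw [xel, xel, xel, ← QuotientGroup.mk_mul]
  refine congrArg QuotientGroup.mk (Subtype.ext ?_)
  simp [Matrix.SpecialLinearGroup.transvection_coe, mul_add, add_mul, Matrix.single_add, hij.symm, add_assoc]

/-- The elementary root elements generate. -/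
theorem hom_ext_xel {H : Type*} [Monoid H] (f g : PSLn →* H)
    (h : ∀ i j (hij : i ≠ j) t, f (xel i j hij t) = g (xel i j hij t)) : f = g := by
  refine MonoidHom.ext fun x => ?_
  induction x using QuotientGroup.induction_on with
  | _ s =>
    refine GL.SL_induction (fun s => f (QuotientGroup.mk s) = g (QuotientGroup.mk s)) ?_ ?_ ?_ s
    · rw [QuotientGroup.mk_one, map_one, map_one]
    · intro i j hij c
      exact h i j hij c
    · intro A B hA hB
      rw [QuotientGroup.mk_mul, map_mul, map_mul, hA, hB]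

section Finite

variable [Fintype F]

theorem xel_injective {i j : Fin (m + 1)} (hij : i ≠ j) : Function.Injective (xel i j hij : F → PSLn) := by
  intro s t h
  rw [xel, xel, ← tv_single hij s (dot_smul_zero (dot_single hij) s),
    ← tv_single hij t (dot_smul_zero (dot_single hij) t)] at h
  exact Multiplicative.ofAdd.injective (rootHom_injective (by simp) (by simp) (dot_single hij) h)

theorem root_map_injective (β : MulAut PSLn) {R R' : Subgroup PSLn}
    (h : R.map (β : PSLn ≃* PSLn).toMonoidHom = R'.map (β : PSLn ≃* PSLn).toMonoidHom) : R = R' :=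
  Subgroup.map_injective (f := (β : PSLn ≃* PSLn).toMonoidHom) β.injective h

theorem sh_map (hm : 1 ≤ m) (β : MulAut PSLn) {R₁ R₂ : Subgroup PSLn} (h : Sh R₁ R₂) :
    Sh (R₁.map (β : PSLn ≃* PSLn).toMonoidHom) (R₂.map (β : PSLn ≃* PSLn).toMonoidHom) := by
  obtain ⟨x, hx, y, hy, hx1, hy1, hc, R, hR, hxy⟩ := h
  refine ⟨β x, Subgroup.mem_map_of_mem _ hx, β y, Subgroup.mem_map_of_mem _ hy,
    fun e => hx1 (β.injective (e.trans (map_one β).symm)), fun e => hy1 (β.injective (e.trans (map_one β).symm)),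
    by rw [← map_mul, ← map_mul, hc], _, isRoot_map hm β hR, ?_⟩
  rw [← map_mul]
  exact Subgroup.mem_map_of_mem _ hxy

theorem sh_map_iff (hm : 1 ≤ m) (β : MulAut PSLn) {R₁ R₂ : Subgroup PSLn} :
    Sh (R₁.map (β : PSLn ≃* PSLn).toMonoidHom) (R₂.map (β : PSLn ≃* PSLn).toMonoidHom) ↔ Sh R₁ R₂ := by
  refine ⟨fun h => ?_, sh_map hm β⟩
  have := sh_map hm β.symm h
  rw [Subgroup.map_map, Subgroup.map_map] at this
  have e : ((β.symm : PSLn ≃* PSLn).toMonoidHom.comp (β : PSLn ≃* PSLn).toMonoidHom) = MonoidHom.id PSLn := by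
    ext x
    simp
  rwa [e, Subgroup.map_id, Subgroup.map_id] at this

omit [Fintype F] in
theorem par_single {i j : Fin (m + 1)} (h : Par (Pi.single i 1 : Vn) (Pi.single j 1)) : i = j := by
  obtain ⟨c, hc, he⟩ := h
  by_contra hne
  have := congrFun he j
  simp [Ne.symm hne] at this

/-- The data of the images of the coordinate transvection groups. -/
structure Images (β : MulAut PSLn) where
  a : Fin (m + 1) → Fin (m + 1) → Vn
  φ : Fin (m + 1) → Fin (m + 1) → Vn
  ha : ∀ i j, i ≠ j → a i j ≠ 0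
  hφ : ∀ i j, i ≠ j → φ i j ≠ 0
  dot : ∀ i j, i ≠ j → φ i j ⬝ᵥ a i j = 0
  map_eq : ∀ i j (hij : i ≠ j), (root (Pi.single i 1) (Pi.single j 1) (dot_single (F := F) hij)).map
    (β : PSLn ≃* PSLn).toMonoidHom = root (a i j) (φ i j) (dot i j hij)

theorem exists_images (hm : 1 ≤ m) (β : MulAut PSLn) : Nonempty (Images β) := by
  classical
  have : ∀ i j : Fin (m + 1), ∃ a φ : Vn, i ≠ j → a ≠ 0 ∧ φ ≠ 0 ∧ ∃ h : φ ⬝ᵥ a = 0, ∀ hij : i ≠ j,
      (root (Pi.single i 1) (Pi.single j 1) (dot_single (F := F) hij)).map (β : PSLn ≃* PSLn).toMonoidHom =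
        root a φ h := by
    intro i j
    by_cases hij : i = j
    · exact ⟨0, 0, fun h => absurd hij h⟩
    · obtain ⟨a, φ, h, ha, hφ, he⟩ := isRoot_map hm β
        (⟨_, _, dot_single hij, by simp, by simp, rfl⟩ : IsRoot (root _ _ (dot_single (F := F) hij)))
      exact ⟨a, φ, fun _ => ⟨ha, hφ, h, fun _ => he⟩⟩
  choose a φ h using this
  exact ⟨⟨a, φ, fun i j hij => (h i j hij).1, fun i j hij => (h i j hij).2.1,
    fun i j hij => (h i j hij).2.2.choose, fun i j hij => (h i j hij).2.2.choose_spec hij⟩⟩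

theorem Images.share_iff (hm : 1 ≤ m) {β : MulAut PSLn} (I : Images β) {i j k l : Fin (m + 1)} (hij : i ≠ j)
    (hkl : k ≠ l) : (i = k ∨ j = l) ↔ (Par (I.a i j) (I.a k l) ∨ Par (I.φ i j) (I.φ k l)) := by
  have h1 : (i = k ∨ j = l) ↔
      Sh (root (Pi.single i 1) (Pi.single j 1) (dot_single (F := F) hij))
        (root (Pi.single k 1) (Pi.single l 1) (dot_single (F := F) hkl)) := by
    refine ⟨fun h => sh_of_par (by simp) (by simp) (by simp) (by simp) _ _ ?_, fun h => ?_⟩
    · rcases h with rfl | rfl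
      exacts [Or.inl (Par.refl _), Or.inr (Par.refl _)]
    · exact (par_of_sh (by simp) (by simp) (by simp) (by simp) _ _ h).imp par_single par_single
  rw [h1, ← sh_map_iff hm β, I.map_eq i j hij, I.map_eq k l hkl]
  exact ⟨par_of_sh (I.ha i j hij) (I.hφ i j hij) (I.ha k l hkl) (I.hφ k l hkl) _ _,
    sh_of_par (I.ha i j hij) (I.hφ i j hij) (I.ha k l hkl) (I.hφ k l hkl) _ _⟩

theorem Images.not_both {β : MulAut PSLn} (I : Images β) {i j k l : Fin (m + 1)} (hij : i ≠ j)
    (hkl : k ≠ l) (h1 : Par (I.a i j) (I.a k l)) (h2 : Par (I.φ i j) (I.φ k l)) : i = k ∧ j = l := by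
  have h := root_map_injective β (((I.map_eq i j hij).trans (root_congr _ _ h1 h2)).trans (I.map_eq k l hkl).symm)
  exact (root_inj (by simp) (by simp) h).imp par_single par_single

/-- The coherent case: images of groups with the same centre have the same centre. -/
def Images.Pointwise {β : MulAut PSLn} (I : Images β) : Prop :=
  (∀ i j k, i ≠ j → i ≠ k → Par (I.a i j) (I.a i k)) ∧ ∀ i j k, j ≠ i → k ≠ i → Par (I.φ j i) (I.φ k i)

/-- The crossed case. -/
def Images.Crossed {β : MulAut PSLn} (I : Images β) : Prop :=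
  (∀ i j k, i ≠ j → i ≠ k → Par (I.φ i j) (I.φ i k)) ∧ ∀ i j k, j ≠ i → k ≠ i → Par (I.a j i) (I.a k i)

theorem Images.dichotomy (hm : 1 ≤ m) {β : MulAut PSLn} (I : Images β) : I.Pointwise ∨ I.Crossed := by
  let C : Fin (m + 1) → Fin (m + 1) → Fin (m + 1) → Prop := fun i j k => Par (I.a i j) (I.a i k)
  let D : Fin (m + 1) → Fin (m + 1) → Fin (m + 1) → Prop := fun i j k => Par (I.a j i) (I.a k i)
  have hrow : ∀ {i j k}, i ≠ j → i ≠ k → C i j k ∨ Par (I.φ i j) (I.φ i k) := fun hj hk =>
    (I.share_iff hm hj hk).1 (Or.inl rfl)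
  have hcol : ∀ {i j k}, j ≠ i → k ≠ i → D i j k ∨ Par (I.φ j i) (I.φ k i) := fun hj hk =>
    (I.share_iff hm hj hk).1 (Or.inr rfl)
  have hw : ∀ {i j k l}, i ≠ j → i ≠ k → i ≠ l → j ≠ k → C i j k → C i j l := by
    intro i j k l hij hik hil hjk h
    by_cases hjl : j = l
    · subst hjl; exact Par.refl _
    by_contra hn
    have h1 := (hrow hij hil).resolve_left hn
    rcases hrow hik hil with h2 | h2
    · exact hn (h.trans h2)
    · exact hjk (I.not_both hij hik h (h1.trans h2.symm)).2
  have hsame : ∀ {i j k j' k'}, i ≠ j → i ≠ k → j ≠ k → i ≠ j' → i ≠ k' → C i j k → C i j' k' := by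
    intro i j k j' k' hij hik hjk hij' hik' h
    exact (hw hij hik hij' hjk h).symm.trans (hw hij hik hik' hjk h)
  have hcross : ∀ {i j k l}, i ≠ j → i ≠ k → j ≠ k → l ≠ j → l ≠ i → (C i j k ↔ ¬ D j i l) := by
    intro i j k l hij hik hjk hlj hli
    have hns : ¬ (i = l ∨ k = j) := fun h => h.elim (Ne.symm hli) (Ne.symm hjk)
    constructor
    · intro h1 h2
      exact hns ((I.share_iff hm hik hlj).2 (Or.inl (h1.symm.trans h2)))
    · intro h2
      by_contra h1
      exact hns ((I.share_iff hm hik hlj).2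
        (Or.inr (((hrow hij hik).resolve_left h1).symm.trans ((hcol hij hlj).resolve_left h2))))
  have hall : (∀ i j k, i ≠ j → i ≠ k → j ≠ k → C i j k) ∨ (∀ i j k, i ≠ j → i ≠ k → j ≠ k → ¬ C i j k) := by
    by_cases h : ∃ i j k, i ≠ j ∧ i ≠ k ∧ j ≠ k ∧ C i j k
    · obtain ⟨i, j, k, hij, hik, hjk, h⟩ := h
      refine Or.inl fun i' j' k' hij' hik' hjk' => ?_
      by_cases hi : i' = i
      · subst hi; exact hsame hij hik hjk hij' hik' h
      obtain ⟨c, hci, hci'⟩ : ∃ c, c ≠ i ∧ c ≠ i' := by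
        by_cases hji : j = i'
        · exact ⟨k, hik.symm, fun h' => hjk (hji.trans h'.symm)⟩
        · exact ⟨j, hij.symm, hji⟩
      obtain ⟨d, hdi, hdc⟩ : ∃ d, i ≠ d ∧ c ≠ d := by
        by_cases hcj : c = j
        · exact ⟨k, hik, hcj ▸ hjk⟩
        · exact ⟨j, hij, hcj⟩
      obtain ⟨e, hei, hec⟩ : ∃ e, i' ≠ e ∧ c ≠ e := by
        by_cases hcj : c = j'
        · exact ⟨k', hik', hcj ▸ hjk'⟩
        · exact ⟨j', hij', hcj⟩
      have h1 : C i c d := hsame hij hik hjk hci.symm hdi h
      have h2 : ¬ D c i i' := (hcross hci.symm hdi hdc (Ne.symm hci') hi).1 h1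
      have h3 : C i' c e := (hcross hci'.symm hei hec (Ne.symm hci) (Ne.symm hi)).2 (fun hD => h2 hD.symm)
      exact hsame hci'.symm hei hec hij' hik' h3
    · push Not at h
      exact Or.inr h
  rcases hall with hall | hall
  · refine Or.inl ⟨fun i j k hij hik => ?_, fun i j k hji hki => ?_⟩
    · by_cases hjk : j = k
      · subst hjk; exact Par.refl _
      · exact hall i j k hij hik hjk
    · by_cases hjk : j = k
      · subst hjk; exact Par.refl _
      · exact (hcol hji hki).resolve_left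
          ((hcross hji hjk (Ne.symm hki) hki (Ne.symm hjk)).1 (hall j i k hji hjk (Ne.symm hki)))
  · refine Or.inr ⟨fun i j k hij hik => ?_, fun i j k hji hki => ?_⟩
    · by_cases hjk : j = k
      · subst hjk; exact Par.refl _
      · exact (hrow hij hik).resolve_left (hall i j k hij hik hjk)
    · by_cases hjk : j = k
      · subst hjk; exact Par.refl _
      · by_contra hD
        exact hall j i k hji hjk (Ne.symm hki) ((hcross hji hjk (Ne.symm hki) hki (Ne.symm hjk)).2 hD)

theorem succ_ne (hm : 1 ≤ m) (i : Fin (m + 1)) : i ≠ i + 1 := by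
  intro h
  have h1 : (1 : Fin (m + 1)) = 0 := by
    have := congrArg (fun x => x - i) h.symm
    simpa using this
  rw [Fin.one_eq_zero_iff] at h1
  omega

/-- In the coherent case some `conjP g` agrees with `β` on all coordinate groups. -/
theorem exists_conjP_map_root (hm : 1 ≤ m) (β : MulAut PSLn) (I : Images β) (hI : I.Pointwise) :
    ∃ g : GL (Fin (m + 1)) F, ∀ i j (hij : i ≠ j),
      (root (Pi.single i 1) (Pi.single j 1) (dot_single (F := F) hij)).map
        ((conjP g)⁻¹ * β : MulAut PSLn).toMonoidHom = root (Pi.single i 1) (Pi.single j 1) (dot_single hij) := by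
  classical
  let s : Fin (m + 1) → Fin (m + 1) := fun i => i + 1
  have hs : ∀ i, i ≠ s i := succ_ne hm
  let A : Fin (m + 1) → Vn := fun i => I.a i (s i)
  let H : Fin (m + 1) → Vn := fun i => I.φ (s i) i
  have hA : ∀ i j, i ≠ j → Par (A i) (I.a i j) := fun i j hij => hI.1 i _ j (hs i) hij
  have hH : ∀ i j, j ≠ i → Par (H i) (I.φ j i) := fun i j hij => hI.2 i _ j (hs i).symm hij
  have hzero : ∀ i j, i ≠ j → H j ⬝ᵥ A i = 0 := fun i j hij =>
    Par.dot_eq_zero (hH j i hij).symm (hA i j hij).symm (I.dot i j hij)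
  have hne : ∀ i, H i ⬝ᵥ A i ≠ 0 := by
    intro i h0
    have hA0 : A i ≠ 0 := I.ha _ _ (hs i)
    have hH0 : H i ≠ 0 := I.hφ _ _ (hs i).symm
    obtain ⟨b, ψ, hd, hb, hψ, hbψ⟩ := isRoot_map hm β.symm
      (⟨A i, H i, h0, hA0, hH0, rfl⟩ : IsRoot (root (A i) (H i) h0))
    have hback : (root b ψ hd).map (β : PSLn ≃* PSLn).toMonoidHom = root (A i) (H i) h0 := by
      rw [← hbψ, Subgroup.map_map]
      convert Subgroup.map_id _
      ext x
      simp
    have key : ∀ (p q : Fin (m + 1)) (hpq : p ≠ q), (Par (A i) (I.a p q) ∨ Par (H i) (I.φ p q)) →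
        Par b (Pi.single p 1) ∨ Par ψ (Pi.single q 1) := by
      intro p q hpq h
      have h1 : Sh (root (A i) (H i) h0) (root (I.a p q) (I.φ p q) (I.dot p q hpq)) :=
        sh_of_par hA0 hH0 (I.ha p q hpq) (I.hφ p q hpq) _ _ h
      rw [← hback, ← I.map_eq p q hpq, sh_map_iff hm β] at h1
      exact par_of_sh hb hψ (by simp) (by simp) _ _ h1
    have k1 := key i (s i) (hs i) (Or.inl (Par.refl _))
    have k2 := key (s i) i (hs i).symm (Or.inr (Par.refl _))
    rcases k1 with k1 | k1 <;> rcases k2 with k2 | k2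
    · exact hs i (par_single (k1.symm.trans k2))
    · have := Par.dot_eq_zero k2 k1 hd
      simp at this
    · have := Par.dot_eq_zero k1 k2 hd
      simp at this
    · exact hs i (par_single (k2.symm.trans k1))
  let P : Matrix (Fin (m + 1)) (Fin (m + 1)) F := Matrix.of fun r c => A c r
  let Q : Matrix (Fin (m + 1)) (Fin (m + 1)) F := Matrix.of H
  have hQP : Q * P = Matrix.diagonal fun i => H i ⬝ᵥ A i := by
    ext r c
    rcases eq_or_ne r c with rfl | hrc
    · rw [Matrix.diagonal_apply_eq]; rfl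
    · rw [Matrix.diagonal_apply_ne _ hrc]; exact hzero c r hrc.symm
  have hP : IsUnit P.det := by
    rw [isUnit_iff_ne_zero]
    intro h0
    have := congrArg Matrix.det hQP
    rw [Matrix.det_mul, h0, mul_zero, Matrix.det_diagonal] at this
    exact Finset.prod_ne_zero_iff.2 (fun i _ => hne i) this.symm
  let g : GL (Fin (m + 1)) F := Matrix.nonsingInvUnit P hP
  refine ⟨g, fun i j hij => ?_⟩
  have hcol : g.val *ᵥ Pi.single i 1 = A i := by
    rw [Matrix.mulVec_single_one]
    rfl
  have hrow : Par (Pi.single j 1 ᵥ* (g⁻¹ : GL (Fin (m + 1)) F).val) (H j) := by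
    refine ⟨H j ⬝ᵥ A j, hne j, ?_⟩
    have h2 : Q = Matrix.diagonal (fun i => H i ⬝ᵥ A i) * (g⁻¹ : GL (Fin (m + 1)) F).val := by
      rw [← hQP, Matrix.mul_assoc, show P = g.val from rfl, Units.mul_inv, Matrix.mul_one]
    rw [Matrix.single_one_vecMul]
    ext c
    rw [Pi.smul_apply, smul_eq_mul, Matrix.row_apply]
    calc H j c = Q j c := rfl
      _ = _ := by rw [h2, Matrix.diagonal_mul]
  have h3 : (root (Pi.single i 1) (Pi.single j 1) (dot_single (F := F) hij)).map (conjP g : PSLn ≃* PSLn).toMonoidHom =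
      root (I.a i j) (I.φ i j) (I.dot i j hij) := by
    rw [map_conjP_root]
    refine root_congr _ _ ?_ (hrow.trans (hH j i hij))
    rw [hcol]
    exact hA i j hij
  have h4 := congrArg (fun R : Subgroup PSLn => R.map ((conjP g)⁻¹ : MulAut PSLn).toMonoidHom)
    ((I.map_eq i j hij).trans h3.symm)
  simp only [Subgroup.map_map] at h4
  refine Eq.trans ?_ (h4.trans ?_)
  · rfl
  · convert Subgroup.map_id _
    ext x
    simp

/-- Hua: additive `f, g` fixing `1` with `g(1/t) = 1/f(t)` are equal and multiplicative. -/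
theorem hua {f g : F → F} (hfa : ∀ a b, f (a + b) = f a + f b) (hga : ∀ a b, g (a + b) = g a + g b)
    (hf1 : f 1 = 1) (hfg : ∀ t, t ≠ 0 → f t * g t⁻¹ = 1) :
    (∀ a, g a = f a) ∧ ∀ a b, f (a * b) = f a * f b := by
  classical
  have hf0 : f 0 = 0 := by have := hfa 0 0; rwa [add_zero, left_eq_add] at this
  have hg0 : g 0 = 0 := by have := hga 0 0; rwa [add_zero, left_eq_add] at this
  have hfs : ∀ a b, f (a - b) = f a - f b := fun a b => by
    have := hfa (a - b) b; rw [sub_add_cancel] at this; linear_combination -this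
  have hgne : ∀ {t}, t ≠ 0 → g t ≠ 0 := fun {t} ht h => by
    have := hfg t⁻¹ (inv_ne_zero ht); rw [inv_inv, h, mul_zero] at this; exact zero_ne_one this
  have hf_eq : ∀ {t}, t ≠ 0 → f t = (g t⁻¹)⁻¹ := fun {t} ht => eq_inv_of_mul_eq_one_left (hfg t ht)
  have hg_eq : ∀ {t}, t ≠ 0 → g t = (f t⁻¹)⁻¹ := fun {t} ht => by
    have := hfg t⁻¹ (inv_ne_zero ht); rw [inv_inv] at this; exact eq_inv_of_mul_eq_one_right this
  have key : ∀ a b, a ≠ 0 → b ≠ 0 → a * b ≠ 1 → f (a * a * b) = f a * f a * g b := by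
    intro a b ha hb hab
    have hd : b⁻¹ - a ≠ 0 := by
      intro h; apply hab; rw [← sub_eq_zero.1 h, inv_mul_cancel₀ hb]
    have hd' : a - a * a * b ≠ 0 := by
      intro h
      apply hab
      have : a * (1 - a * b) = 0 := by linear_combination h
      exact (sub_eq_zero.1 ((mul_eq_zero.1 this).resolve_left ha)).symm
    have e1 : (a - a * a * b)⁻¹ = a⁻¹ + (b⁻¹ - a)⁻¹ := by
      refine inv_eq_of_mul_eq_one_right ?_
      field_simp
      ring
    have e2 := hfg _ hd'
    rw [e1, hga] at e2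
    have hfa' : f a ≠ 0 := by rw [hf_eq ha]; exact inv_ne_zero (hgne (inv_ne_zero ha))
    have hfd : f (b⁻¹ - a) ≠ 0 := by rw [hf_eq hd]; exact inv_ne_zero (hgne (inv_ne_zero hd))
    have hga' : g a⁻¹ = (f a)⁻¹ := by rw [hg_eq (inv_ne_zero ha), inv_inv]
    have hgd : g (b⁻¹ - a)⁻¹ = (f (b⁻¹ - a))⁻¹ := by rw [hg_eq (inv_ne_zero hd), inv_inv]
    have hgb : g b = (f b⁻¹)⁻¹ := hg_eq hb
    have hfb : f b⁻¹ ≠ 0 := by
      intro h; exact hgne hb (by rw [hgb, h, _root_.inv_zero])
    rw [hga', hgd, hfs, hfs] at e2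
    rw [hfs] at hfd
    have e3 : (f a - f (a * a * b)) * f b⁻¹ = f a * (f b⁻¹ - f a) := by
      calc (f a - f (a * a * b)) * f b⁻¹
          = (f a - f (a * a * b)) * ((f a)⁻¹ + (f b⁻¹ - f a)⁻¹) * (f a * (f b⁻¹ - f a)) := by
            generalize f a = A at hfa' hfd ⊢
            generalize f b⁻¹ = B at hfd ⊢
            field_simp
            ring
        _ = _ := by rw [e2, one_mul]
    rw [hgb, eq_mul_inv_iff_mul_eq₀ hfb]
    linear_combination -e3
  have hg1 : g 1 = 1 := by simpa [hf1] using hfg 1 one_ne_zero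
  have hgf : ∀ a, g a = f a := by
    intro a
    by_cases ha : a = 0
    · rw [ha, hf0, hg0]
    by_cases ha1 : a = 1
    · rw [ha1, hf1, hg1]
    have := key 1 a one_ne_zero ha (by rwa [one_mul])
    simpa [hf1] using this.symm
  refine ⟨hgf, ?_⟩
  have hsq : ∀ a b, f (a * a * b) = f a * f a * f b := by
    intro a b
    by_cases ha : a = 0
    · simp [ha, hf0]
    by_cases hb : b = 0
    · simp [hb, hf0]
    by_cases hab : a * b = 1
    · have := hfg a ha
      rw [← eq_inv_of_mul_eq_one_right hab, hgf] at this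
      rw [mul_assoc, hab, mul_one, mul_assoc, this, mul_one]
    · rw [key a b ha hb hab, hgf]
  intro a b
  by_cases h2 : (2 : F) = 0
  · haveI : CharP F 2 := CharTwo.of_one_ne_zero_of_two_eq_zero one_ne_zero h2
    obtain ⟨c, rfl⟩ := FiniteField.isSquare_of_char_two (F := F) (ringChar.eq F 2) a
    have := hsq c 1
    rw [mul_one, hf1, mul_one] at this
    rw [hsq, this]
  · have hsq' : ∀ x, f (x * x) = f x * f x := fun x => by
      have := hsq x 1; rwa [mul_one, hf1, mul_one] at this
    have e := hsq' (a + b)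
    rw [show (a + b) * (a + b) = (a * a + b * b) + (a * b + a * b) by ring, hfa, hfa (a * a), hfa (a * b), hfa a b,
      hsq', hsq'] at e
    have : (2 : F) * (f (a * b) - f a * f b) = 0 := by linear_combination e
    exact sub_eq_zero.1 ((mul_eq_zero.1 this).resolve_left h2)

/-- An automorphism fixing all coordinate groups, normalised on the first row, is a field automorphism. -/
theorem eq_fieldP_of_fix (hm : 1 ≤ m) (γ : MulAut PSLn)
    (hfix : ∀ i j (hij : i ≠ j), (root (Pi.single i 1) (Pi.single j 1) (dot_single (F := F) hij)).map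
      (γ : PSLn ≃* PSLn).toMonoidHom = root (Pi.single i 1) (Pi.single j 1) (dot_single hij))
    (hnorm : ∀ j (hj : (0 : Fin (m + 1)) ≠ j), γ (xel 0 j hj 1) = xel 0 j hj 1) :
    ∃ σ : F ≃+* F, γ = fieldP σ := by
  classical
  have hex : ∀ i j (hij : i ≠ j) (t : F), ∃ s, γ (xel i j hij t) = xel i j hij s := by
    intro i j hij t
    rw [← mem_root_single hij, ← hfix i j hij]
    exact Subgroup.mem_map_of_mem (γ : PSLn ≃* PSLn).toMonoidHom ((mem_root_single hij).2 ⟨t, rfl⟩)
  choose f hf using hex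
  have hadd : ∀ i j (hij : i ≠ j) s t, f i j hij (s + t) = f i j hij s + f i j hij t := fun i j hij s t =>
    xel_injective hij (by rw [← hf, xel_mul, map_mul, hf, hf, ← xel_mul])
  have h0 : ∀ j (hj : (0 : Fin (m + 1)) ≠ j), f 0 j hj 1 = 1 := fun j hj =>
    xel_injective hj (by rw [← hf, hnorm])
  have hfinj : ∀ i j (hij : i ≠ j), Function.Injective (f i j hij) := fun i j hij s t h =>
    xel_injective hij (γ.injective (by rw [hf, hf, h]))
  suffices H : ∃ φ : F → F, (∀ a b, φ (a * b) = φ a * φ b) ∧ (∀ a b, φ (a + b) = φ a + φ b) ∧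
      Function.Injective φ ∧ ∀ i j (hij : i ≠ j), f i j hij = φ by
    obtain ⟨φ, hmul, hadd', hinj, hφ⟩ := H
    let σ : F ≃+* F :=
      { Equiv.ofBijective φ (Finite.injective_iff_bijective.1 hinj) with
        map_mul' := hmul
        map_add' := hadd' }
    refine ⟨σ, ?_⟩
    have := hom_ext_xel (γ : PSLn ≃* PSLn).toMonoidHom (fieldP σ : PSLn ≃* PSLn).toMonoidHom
      (fun i j hij t => by
        show γ (xel i j hij t) = fieldP σ (xel i j hij t)
        rw [fieldP_xel, hf, hφ]
        rfl)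
    exact MulEquiv.ext fun x => DFunLike.congr_fun this x
  rcases Nat.lt_or_ge m 2 with h2 | h2
  · -- two by two
    obtain rfl : m = 1 := by omega
    have h01 : (0 : Fin 2) ≠ 1 := by decide
    have hrel : ∀ t : F, t ≠ 0 → f 0 1 h01 t * f 1 0 h01.symm t⁻¹ = 1 := by
      intro t ht
      -- the conjugates `x(t) Y x(-t)` and `y(1/t) X y(-1/t)` are the same group
      have hrow : ∀ (u v : F) (i j : Fin 2) (hij : i ≠ j),
          (root (Pi.single j 1) (Pi.single i 1) (dot_single (F := F) hij.symm)).map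
            (conjP (Matrix.SpecialLinearGroup.toGL (Matrix.SpecialLinearGroup.transvection hij u))).toMonoidHom =
          root (Pi.single j 1 + u • Pi.single i 1) (Pi.single i 1 - u • Pi.single j 1)
            (by simp [hij, hij.symm]) := by
        intro u v i j hij
        rw [map_conjP_root]
        refine root_congr _ _ ⟨1, one_ne_zero, ?_⟩ ⟨1, one_ne_zero, ?_⟩
        · rw [one_smul]
          change _ = (Matrix.SpecialLinearGroup.transvection hij u).1 *ᵥ _
          rw [Matrix.SpecialLinearGroup.transvection_coe, single_eq_vecMulVec, Matrix.add_mulVec, Matrix.one_mulVec,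
            vecMulVec_mulVec']
          simp
        · rw [one_smul, ← map_inv, Matrix.SpecialLinearGroup.transvection_inv]
          change _ = _ ᵥ* (Matrix.SpecialLinearGroup.transvection hij (-u)).1
          rw [Matrix.SpecialLinearGroup.transvection_coe, single_eq_vecMulVec, Matrix.vecMul_add, Matrix.vecMul_one,
            Matrix.vecMul_vecMulVec]
          simp [sub_eq_add_neg]
      have himg : ∀ (u : F) (i j : Fin 2) (hij : i ≠ j),
          (root (Pi.single j 1 + u • Pi.single i 1) (Pi.single i 1 - u • Pi.single j 1)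
            (by simp [hij, hij.symm]) : Subgroup (Matrix.ProjectiveSpecialLinearGroup (Fin 2) F)).map
            γ.toMonoidHom =
          root (Pi.single j 1 + f i j hij u • Pi.single i 1) (Pi.single i 1 - f i j hij u • Pi.single j 1)
            (by simp [hij, hij.symm]) := by
        intro u i j hij
        rw [← hrow u 0 i j hij, ← hrow (f i j hij u) 0 i j hij, Subgroup.map_map]
        have : γ.toMonoidHom.comp
            (conjP (Matrix.SpecialLinearGroup.toGL (Matrix.SpecialLinearGroup.transvection hij u))).toMonoidHom =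
          (conjP (Matrix.SpecialLinearGroup.toGL
            (Matrix.SpecialLinearGroup.transvection hij (f i j hij u)))).toMonoidHom.comp γ.toMonoidHom := by
          ext x
          have e := hf i j hij u
          rw [xel, xel] at e
          simp only [MonoidHom.comp_apply, MulEquiv.coe_toMonoidHom, conjP_toGL, MulAut.conj_apply, map_mul,
            map_inv, e]
        rw [this, ← Subgroup.map_map, hfix j i hij.symm]
      have hpar : (root (Pi.single 1 1 + t • Pi.single 0 1) (Pi.single 0 1 - t • Pi.single 1 1)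
            (by simp) : Subgroup (Matrix.ProjectiveSpecialLinearGroup (Fin 2) F)) =
          root (Pi.single 0 1 + t⁻¹ • Pi.single 1 1) (Pi.single 1 1 - t⁻¹ • Pi.single 0 1) (by simp) := by
        refine root_congr _ _ ⟨t⁻¹, inv_ne_zero ht, ?_⟩ ⟨-t⁻¹, neg_ne_zero.2 (inv_ne_zero ht), ?_⟩ <;>
          funext k <;> fin_cases k <;> simp [ht]
      have h := congrArg (fun R => Subgroup.map γ.toMonoidHom R) hpar
      rw [himg t 0 1 h01, himg t⁻¹ 1 0 h01.symm] at h
      have hne : (Pi.single 1 1 + f 0 1 h01 t • Pi.single 0 1 : Fin 2 → F) ≠ 0 := fun e => by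
        simpa using congrFun e 1
      have hne' : (Pi.single 0 1 - f 0 1 h01 t • Pi.single 1 1 : Fin 2 → F) ≠ 0 := fun e => by
        simpa using congrFun e 0
      obtain ⟨⟨c, hc, hc'⟩, -⟩ := root_inj hne hne' h
      have e0 := congrFun hc' 0
      have e1 := congrFun hc' 1
      simp at e0 e1
      rw [e1, mul_comm]
      linear_combination -e0
    obtain ⟨hgf, hmul⟩ := hua (hadd 0 1 h01) (hadd 1 0 h01.symm) (h0 1 h01) hrel
    refine ⟨f 0 1 h01, hmul, hadd 0 1 h01, hfinj 0 1 h01, fun i j hij => ?_⟩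
    fin_cases i <;> fin_cases j
    · exact absurd rfl hij
    · rfl
    · exact funext hgf
    · exact absurd rfl hij
  · -- at least three by three
    have hcomm : ∀ i j k (hij : i ≠ j) (hjk : j ≠ k) (hik : i ≠ k) s t,
        f i k hik (s * t) = f i j hij s * f j k hjk t := by
      intro i j k hij hjk hik s t
      have hx : ∀ s t, ⁅(xel i j hij s : PSLn), xel j k hjk t⁆ = xel i k hik (s * t) := fun s t => by
        rw [xel, xel, xel, ← GL.commutator_transvection hij hjk hik s t]
        rfl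
      refine xel_injective hik ?_
      rw [← hf, ← hx, map_commutatorElement, hf, hf, hx]
    have hone : ∀ i j (hij : i ≠ j), f i j hij 1 = 1 := by
      have hrow : ∀ i j (hij : i ≠ j), i ≠ 0 → j ≠ 0 → f i j hij 1 = 1 := by
        intro i j hij hi hj
        have := hcomm 0 i j hi.symm hij hj.symm 1 1
        rw [one_mul, h0, h0, one_mul] at this
        exact this.symm
      intro i j hij
      by_cases hi : i = 0
      · subst hi; exact h0 j hij
      by_cases hj : j = 0
      · subst hj
        obtain ⟨k, hk0, hki⟩ : ∃ k : Fin (m + 1), k ≠ 0 ∧ k ≠ i := by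
          by_cases h : i = ⟨1, by omega⟩
          · exact ⟨⟨2, by omega⟩, by simp [Fin.ext_iff], by simp [h, Fin.ext_iff]⟩
          · exact ⟨⟨1, by omega⟩, by simp [Fin.ext_iff], Ne.symm h⟩
        have := hcomm i 0 k hij hk0.symm hki.symm 1 1
        rw [one_mul, h0, mul_one, hrow i k hki.symm hi hk0] at this
        exact this.symm
      exact hrow i j hij hi hj
    have hr : ∀ i j k (hij : i ≠ j) (hik : i ≠ k), f i j hij = f i k hik := by
      intro i j k hij hik
      by_cases hjk : j = k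
      · subst hjk; rfl
      funext t
      have := hcomm i j k hij hjk hik t 1
      rw [mul_one, hone, mul_one] at this
      exact this.symm
    have hl : ∀ i j k (hij : i ≠ k) (hjk : j ≠ k), f i k hij = f j k hjk := by
      intro i j k hik hjk
      by_cases hij : i = j
      · subst hij; rfl
      funext t
      have := hcomm i j k hij hjk hik 1 t
      rw [one_mul, hone, one_mul] at this
      exact this
    have hbase : (0 : Fin (m + 1)) ≠ ⟨1, by omega⟩ := by simp [Fin.ext_iff]
    have hall : ∀ i j (hij : i ≠ j), f i j hij = f 0 ⟨1, by omega⟩ hbase := by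
      intro i j hij
      by_cases hj : j = 0
      · subst hj
        obtain ⟨k, hk0, hki⟩ : ∃ k : Fin (m + 1), k ≠ 0 ∧ k ≠ i := by
          by_cases h : i = ⟨1, by omega⟩
          · exact ⟨⟨2, by omega⟩, by simp [Fin.ext_iff], by simp [h, Fin.ext_iff]⟩
          · exact ⟨⟨1, by omega⟩, by simp [Fin.ext_iff], Ne.symm h⟩
        exact (hr i 0 k hij hki.symm).trans ((hl i 0 k hki.symm hk0.symm).trans (hr 0 k _ hk0.symm hbase))
      · exact (hl i 0 j hij (Ne.symm hj)).trans (hr 0 j _ (Ne.symm hj) hbase)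
    refine ⟨_, fun a b => ?_, hadd _ _ hbase, hfinj _ _ hbase, hall⟩
    have := hcomm 0 ⟨2, by omega⟩ ⟨1, by omega⟩ (by simp [Fin.ext_iff]) (by simp [Fin.ext_iff]) hbase a b
    rw [hall 0 ⟨2, by omega⟩, hall ⟨2, by omega⟩] at this
    exact this

/-- **Automorphisms of `PSL_n`.** -/
theorem exists_decomposition (hm : 1 ≤ m) (β : MulAut PSLn) :
    ∃ (g : GL (Fin (m + 1)) F) (σ : F ≃+* F) (γ : MulAut PSLn),
      (γ = 1 ∨ γ = invP) ∧ β = conjP g * fieldP σ * γ := by
  classical
  obtain ⟨I⟩ := exists_images hm β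
  suffices H : ∀ β' : MulAut PSLn, (∃ I' : Images β', I'.Pointwise) →
      ∃ (g : GL (Fin (m + 1)) F) (σ : F ≃+* F), β' = conjP g * fieldP σ by
    rcases I.dichotomy hm with hI | hI
    · obtain ⟨g, σ, h⟩ := H β ⟨I, hI⟩
      exact ⟨g, σ, 1, Or.inl rfl, by rw [mul_one]; exact h⟩
    · let I' : Images (β * invP) :=
        { a := fun i j => I.a j i
          φ := fun i j => I.φ j i
          ha := fun i j hij => I.ha j i hij.symm
          hφ := fun i j hij => I.hφ j i hij.symm
          dot := fun i j hij => I.dot j i hij.symm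
          map_eq := fun i j hij => by
            rw [← I.map_eq j i hij.symm, ← invP_root hij, Subgroup.map_map]
            rfl }
      obtain ⟨g, σ, h⟩ := H _ ⟨I', fun i j k h h' => hI.2 i j k h.symm h'.symm, fun i j k h h' => hI.1 i j k h.symm h'.symm⟩
      refine ⟨g, σ, invP, Or.inr rfl, ?_⟩
      rw [← h, mul_assoc, invP_mul_self, mul_one]
  rintro β' ⟨I', hI'⟩
  obtain ⟨g, hg⟩ := exists_conjP_map_root hm β' I' hI'
  set γ : MulAut PSLn := (conjP g)⁻¹ * β'
  have hc : ∀ j (hj : (0 : Fin (m + 1)) ≠ j), ∃ c : Fˣ, γ (xel 0 j hj 1) = xel 0 j hj (c : F) := by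
    intro j hj
    have : γ (xel 0 j hj 1) ∈ root (Pi.single 0 1) (Pi.single j 1) (dot_single (F := F) hj) := by
      rw [← hg 0 j hj]
      exact Subgroup.mem_map_of_mem (γ : PSLn ≃* PSLn).toMonoidHom ((mem_root_single hj).2 ⟨1, rfl⟩)
    obtain ⟨c, hc⟩ := (mem_root_single hj).1 this
    have hc0 : c ≠ 0 := by
      intro h
      rw [h, show (xel 0 j hj (0 : F) : PSLn) = 1 by
        rw [xel, Matrix.SpecialLinearGroup.transvection_coeff_zero]; rfl, ← map_one γ] at hc
      have := γ.injective hc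
      rw [show (1 : PSLn) = xel 0 j hj (0 : F) by
        rw [xel, Matrix.SpecialLinearGroup.transvection_coeff_zero]; rfl] at this
      exact one_ne_zero (xel_injective hj this)
    exact ⟨Units.mk0 c hc0, hc⟩
  choose c hc using hc
  let d : Fin (m + 1) → Fˣ := fun j => if hj : (0 : Fin (m + 1)) ≠ j then c j hj else 1
  have hfix : ∀ i j (hij : i ≠ j), (root (Pi.single i 1) (Pi.single j 1) (dot_single (F := F) hij)).map
      (conjP (GL.diagHom d) * γ : MulAut PSLn).toMonoidHom =
      root (Pi.single i 1) (Pi.single j 1) (dot_single hij) := by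
    intro i j hij
    have : (conjP (GL.diagHom d) * γ : MulAut PSLn).toMonoidHom =
        (conjP (GL.diagHom d)).toMonoidHom.comp γ.toMonoidHom := rfl
    rw [this, ← Subgroup.map_map, hg i j hij, map_conjP_root]
    refine root_congr _ _ ⟨((d i)⁻¹ : Fˣ), Units.ne_zero _, ?_⟩ ⟨(d j : F), Units.ne_zero _, ?_⟩
    · funext k
      rw [GL.coe_diagHom, Pi.smul_apply, Matrix.mulVec_diagonal, smul_eq_mul]
      rcases eq_or_ne k i with rfl | hk <;> simp [*]
    · funext k
      rw [← map_inv, GL.coe_diagHom, Pi.smul_apply, Matrix.vecMul_diagonal, smul_eq_mul]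
      rcases eq_or_ne k j with rfl | hk <;> simp [*]
  have hnorm : ∀ j (hj : (0 : Fin (m + 1)) ≠ j),
      (conjP (GL.diagHom d) * γ : MulAut PSLn) (xel 0 j hj 1) = xel 0 j hj 1 := by
    intro j hj
    rw [MulAut.mul_apply, hc j hj, conjP_diag_xel]
    congr 1
    simp [d, hj]
  obtain ⟨σ, hσ⟩ := eq_fieldP_of_fix hm _ hfix hnorm
  refine ⟨g * (GL.diagHom d)⁻¹, σ, ?_⟩
  rw [map_mul, map_inv, ← hσ]
  simp [γ, mul_assoc]

end Finite

end Cfsg.Agent.AutPSL
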