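import Cfsg.Agent.Lib.AutPSL.Basic
import Cfsg.Agent.Lib.GL.Sylow
import Cfsg.Agent.Lib.GL.Simple

/-!
Transvection groups in `PSL_n` over a finite field and how automorphisms act on them.
-/

set_option autoImplicit false

open Matrix
open scoped MatrixGroups

namespace Cfsg.Agent.AutPSL

section Vectors

variable {ι F : Type*} [Field F] [Fintype ι]

/-- Two vectors differ by a non-zero scalar. -/
def Par (a b : ι → F) : Prop := ∃ c : F, c ≠ 0 ∧ b = c • a

omit [Fintype ι] in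
theorem Par.refl (a : ι → F) : Par a a := ⟨1, one_ne_zero, (one_smul F a).symm⟩

omit [Fintype ι] in
theorem Par.symm {a b : ι → F} (h : Par a b) : Par b a := by
  obtain ⟨c, hc, rfl⟩ := h
  exact ⟨c⁻¹, inv_ne_zero hc, by rw [smul_smul, inv_mul_cancel₀ hc, one_smul]⟩

omit [Fintype ι] in
theorem Par.trans {a b c : ι → F} (h : Par a b) (h' : Par b c) : Par a c := by
  obtain ⟨x, hx, rfl⟩ := h
  obtain ⟨y, hy, rfl⟩ := h'
  exact ⟨y * x, mul_ne_zero hy hx, by rw [smul_smul]⟩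

omit [Fintype ι] in
theorem Par.ne_zero {a b : ι → F} (h : Par a b) (ha : a ≠ 0) : b ≠ 0 := by
  obtain ⟨c, hc, rfl⟩ := h
  exact smul_ne_zero hc ha

theorem Par.dot_eq_zero {φ ψ a b : ι → F} (hφ : Par φ ψ) (ha : Par a b) (h : φ ⬝ᵥ a = 0) : ψ ⬝ᵥ b = 0 := by
  obtain ⟨c, -, rfl⟩ := hφ
  obtain ⟨d, -, rfl⟩ := ha
  simp [h]

theorem vecMulVec_mulVec' (a φ v : ι → F) : vecMulVec a φ *ᵥ v = (φ ⬝ᵥ v) • a := by
  rw [vecMulVec_mulVec]
  ext k
  simp [mul_comm]

theorem vecMulVec_mul_vecMulVec' (a φ b ψ : ι → F) :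
    vecMulVec a φ * vecMulVec b ψ = (φ ⬝ᵥ b) • vecMulVec a ψ := by
  ext i j
  simp only [Matrix.mul_apply, vecMulVec_apply, Matrix.smul_apply, smul_eq_mul, dotProduct, Finset.sum_mul]
  exact Finset.sum_congr rfl fun k _ => by ring

/-- A sum of two rank one matrices has rank one only if they share a factor. -/
theorem par_of_add_eq {a φ b ψ c θ : ι → F} (ha : a ≠ 0) (hφ : φ ≠ 0) (hb : b ≠ 0) (hψ : ψ ≠ 0)
    (h : vecMulVec a φ + vecMulVec b ψ = vecMulVec c θ) : Par a b ∨ Par φ ψ := by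
  classical
  have key : ∀ (a φ b ψ : ι → F), φ ≠ 0 → ψ ≠ 0 → b ≠ 0 →
      vecMulVec a φ + vecMulVec b ψ = vecMulVec c θ → ¬ Par φ ψ → Par c b := by
    intro a φ b ψ hφ hψ hb h hn
    obtain ⟨k, hk⟩ := Function.ne_iff.1 hφ
    obtain ⟨i, hi⟩ : ∃ i, ψ i * φ k - ψ k * φ i ≠ 0 := by
      by_contra hall
      push Not at hall
      refine hn ⟨ψ k / φ k, ?_, ?_⟩
      · intro h0
        refine hψ (funext fun i => ?_)
        have h1 := hall i
        rcases div_eq_zero_iff.1 h0 with h0 | h0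
        · rw [h0, zero_mul, sub_zero] at h1
          exact (mul_eq_zero.1 h1).resolve_right hk
        · exact absurd h0 hk
      · funext i
        have h1 := hall i
        have hk' : φ k ≠ 0 := hk
        rw [Pi.smul_apply, smul_eq_mul, div_mul_eq_mul_div, eq_div_iff hk']
        linear_combination h1
    let v : ι → F := Pi.single i (φ k) - Pi.single k (φ i)
    have hφv : φ ⬝ᵥ v = 0 := by simp [v, mul_comm]
    have hψv : ψ ⬝ᵥ v ≠ 0 := by simpa [v, mul_comm] using hi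
    have := congrArg (fun M => M *ᵥ v) h
    simp only [Matrix.add_mulVec, vecMulVec_mulVec', hφv, zero_smul, zero_add] at this
    have hθ : θ ⬝ᵥ v ≠ 0 := by
      intro h0
      rw [h0, zero_smul, smul_eq_zero] at this
      exact this.elim hψv hb
    refine ⟨(ψ ⬝ᵥ v)⁻¹ * (θ ⬝ᵥ v), mul_ne_zero (inv_ne_zero hψv) hθ, ?_⟩
    rw [← smul_smul, ← this, smul_smul, inv_mul_cancel₀ hψv, one_smul]
  by_cases hp : Par φ ψ
  · exact Or.inr hp
  · have h1 := key a φ b ψ hφ hψ hb h hp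
    have h2 := key b ψ a φ hψ hφ ha (by rw [add_comm]; exact h) (fun hh => hp hh.symm)
    exact Or.inl (h2.symm.trans h1)

omit [Fintype ι] in
theorem par_of_eq {a φ b ψ : ι → F} (ha : a ≠ 0) (hφ : φ ≠ 0) (h : vecMulVec a φ = vecMulVec b ψ) :
    Par a b ∧ Par φ ψ := by
  obtain ⟨i, hi⟩ := Function.ne_iff.1 ha
  obtain ⟨j, hj⟩ := Function.ne_iff.1 hφ
  have hij : b i * ψ j ≠ 0 := by
    rw [← vecMulVec_apply, ← h, vecMulVec_apply]
    exact mul_ne_zero hi hj
  have hbi := (mul_ne_zero_iff.1 hij).1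
  have hψj := (mul_ne_zero_iff.1 hij).2
  have hi' : a i ≠ 0 := hi
  have hj' : φ j ≠ 0 := hj
  refine ⟨⟨φ j / ψ j, div_ne_zero hj' hψj, funext fun k => ?_⟩, ⟨a i / b i, div_ne_zero hi' hbi, funext fun k => ?_⟩⟩
  · have := congrFun (congrFun h k) j
    simp only [vecMulVec_apply] at this
    rw [Pi.smul_apply, smul_eq_mul, div_mul_eq_mul_div, eq_div_iff hψj]
    linear_combination -this
  · have := congrFun (congrFun h i) k
    simp only [vecMulVec_apply] at this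
    rw [Pi.smul_apply, smul_eq_mul, div_mul_eq_mul_div, eq_div_iff hbi]
    linear_combination -this

end Vectors

variable {n : ℕ} {F : Type*} [Field F]

local notation "SLn" => Matrix.SpecialLinearGroup (Fin n) F
local notation "PSLn" => Matrix.ProjectiveSpecialLinearGroup (Fin n) F

/-- The transvection `1 + a φ`. -/
def tv (a φ : Fin n → F) (h : φ ⬝ᵥ a = 0) : SLn :=
  ⟨1 + vecMulVec a φ, by
    rw [vecMulVec_eq Unit, Matrix.det_one_add_replicateCol_mul_replicateRow, h, add_zero]⟩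

theorem tv_coe (a φ : Fin n → F) (h : φ ⬝ᵥ a = 0) : (tv a φ h).1 = 1 + vecMulVec a φ := rfl

theorem dot_smul_zero {a φ : Fin n → F} (h : φ ⬝ᵥ a = 0) (t : F) : φ ⬝ᵥ (t • a) = 0 := by
  rw [dotProduct_smul, h, smul_zero]

/-- The transvection group as a homomorphism to `PSL`. -/
def rootHom (a φ : Fin n → F) (h : φ ⬝ᵥ a = 0) : Multiplicative F →* PSLn where
  toFun t := QuotientGroup.mk (tv (t.toAdd • a) φ (dot_smul_zero h _))
  map_one' := by
    rw [show tv ((1 : Multiplicative F).toAdd • a) φ (dot_smul_zero h _) = 1 from Subtype.ext (by simp [tv_coe])]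
    rfl
  map_mul' s t := by
    rw [← QuotientGroup.mk_mul]
    refine congrArg _ (Subtype.ext ?_)
    rw [Matrix.SpecialLinearGroup.coe_mul, tv_coe, tv_coe, tv_coe]
    simp [mul_add, add_mul, vecMulVec_mul_vecMulVec', h, Matrix.smul_vecMulVec, add_smul, Matrix.add_vecMulVec]
    abel

/-- The image in `PSL` of a transvection group. -/
def root (a φ : Fin n → F) (h : φ ⬝ᵥ a = 0) : Subgroup PSLn := (rootHom a φ h).range

theorem rootHom_apply (a φ : Fin n → F) (h : φ ⬝ᵥ a = 0) (t : F) :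
    rootHom a φ h (Multiplicative.ofAdd t) = QuotientGroup.mk (tv (t • a) φ (dot_smul_zero h _)) := rfl

theorem mk_tv_mem_root {a φ : Fin n → F} (h : φ ⬝ᵥ a = 0) (t : F) :
    QuotientGroup.mk (tv (t • a) φ (dot_smul_zero h t)) ∈ root a φ h := ⟨Multiplicative.ofAdd t, rfl⟩

/-- A subgroup is a transvection group. -/
def IsRoot (R : Subgroup PSLn) : Prop :=
  ∃ (a φ : Fin n → F) (h : φ ⬝ᵥ a = 0), a ≠ 0 ∧ φ ≠ 0 ∧ R = root a φ h

theorem root_congr {a φ b ψ : Fin n → F} (h : φ ⬝ᵥ a = 0) (h' : ψ ⬝ᵥ b = 0) (ha : Par a b) (hφ : Par φ ψ) :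
    root a φ h = root b ψ h' := by
  obtain ⟨c, hc, rfl⟩ := ha
  obtain ⟨d, hd, rfl⟩ := hφ
  ext x
  constructor
  · rintro ⟨t, rfl⟩
    refine ⟨Multiplicative.ofAdd (t.toAdd / (c * d)), ?_⟩
    refine congrArg _ (Subtype.ext ?_)
    simp [tv_coe, Matrix.smul_vecMulVec, Matrix.vecMulVec_smul, smul_smul]
    congr 1
    field_simp
  · rintro ⟨t, rfl⟩
    refine ⟨Multiplicative.ofAdd (t.toAdd * (c * d)), ?_⟩
    refine congrArg _ (Subtype.ext ?_)
    simp [tv_coe, Matrix.smul_vecMulVec, Matrix.vecMulVec_smul, smul_smul]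
    congr 1
    ring

theorem conjSL_tv (g : GL (Fin n) F) {a φ : Fin n → F} (h : φ ⬝ᵥ a = 0)
    (h' : (φ ᵥ* ((g⁻¹ : GL (Fin n) F) : Matrix (Fin n) (Fin n) F)) ⬝ᵥ ((g : Matrix (Fin n) (Fin n) F) *ᵥ a) = 0) :
    conjSL g (tv a φ h) =
      tv ((g : Matrix (Fin n) (Fin n) F) *ᵥ a) (φ ᵥ* ((g⁻¹ : GL (Fin n) F) : Matrix (Fin n) (Fin n) F)) h' := by
  refine Subtype.ext ?_
  rw [conjSL_coe, tv_coe, tv_coe, mul_add, add_mul, Matrix.mul_vecMulVec, Matrix.vecMulVec_mul]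
  simp

theorem dot_conj (g : GL (Fin n) F) {a φ : Fin n → F} (h : φ ⬝ᵥ a = 0) :
    (φ ᵥ* ((g⁻¹ : GL (Fin n) F) : Matrix (Fin n) (Fin n) F)) ⬝ᵥ ((g : Matrix (Fin n) (Fin n) F) *ᵥ a) = 0 := by
  rw [← Matrix.dotProduct_mulVec, Matrix.mulVec_mulVec]
  simpa using h

theorem map_conjP_root (g : GL (Fin n) F) {a φ : Fin n → F} (h : φ ⬝ᵥ a = 0) :
    (root a φ h).map (conjP g : PSLn ≃* PSLn).toMonoidHom =
      root ((g : Matrix (Fin n) (Fin n) F) *ᵥ a) (φ ᵥ* ((g⁻¹ : GL (Fin n) F) : Matrix (Fin n) (Fin n) F))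
        (dot_conj g h) := by
  rw [root, root, MonoidHom.map_range]
  congr 1
  ext t
  show conjP g (QuotientGroup.mk (tv _ φ _)) = _
  rw [conjP_mk]
  refine congrArg _ (Subtype.ext ?_)
  rw [conjSL_coe, tv_coe, tv_coe, mul_add, add_mul, Matrix.mul_vecMulVec, Matrix.vecMulVec_mul,
    Matrix.mulVec_smul]
  simp

/-- Any vector and functional with `φ a = 0` come from `e₀` and `e_last` by some element of `SL`. -/
theorem exists_SL_move {m : ℕ} (hm : 1 ≤ m) {a φ : Fin (m + 1) → F} (ha : a ≠ 0) (hφ : φ ≠ 0) (h : φ ⬝ᵥ a = 0) :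
    ∃ g : Matrix.SpecialLinearGroup (Fin (m + 1)) F, Par (g.1 *ᵥ Pi.single 0 1) a ∧
      Par ((Pi.single (Fin.last m) 1) ᵥ* (g⁻¹ : Matrix.SpecialLinearGroup (Fin (m + 1)) F).1) φ := by
  classical
  obtain ⟨k, hk⟩ := Function.ne_iff.1 ha
  -- a matrix sending `e₀` to `a`
  let M₁ : Matrix (Fin (m + 1)) (Fin (m + 1)) F :=
    ((1 : Matrix (Fin (m + 1)) (Fin (m + 1)) F).updateCol k a).submatrix id (Equiv.swap 0 k)
  have hM₁det : IsUnit M₁.det := by
    rw [isUnit_iff_ne_zero]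
    simp only [M₁]
    rw [Matrix.det_permute']
    refine mul_ne_zero ?_ ?_
    · rcases Int.units_eq_one_or (Equiv.Perm.sign (Equiv.swap 0 k)) with h | h <;> simp [h]
    · rw [show (1 : Matrix (Fin (m + 1)) (Fin (m + 1)) F).updateCol k a =
          (1 : Matrix (Fin (m + 1)) (Fin (m + 1)) F).updateCol k (∑ i, a i • Pi.single i 1) by
        congr; ext j; simp [Pi.single_apply]]
      rw [show (∑ i, a i • (Pi.single i (1 : F) : Fin (m + 1) → F)) =
          (fun r => ∑ i, a i • (1 : Matrix (Fin (m + 1)) (Fin (m + 1)) F) r i) by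
        ext j; simp [Pi.single_apply, Matrix.one_apply, eq_comm]]
      rw [Matrix.det_updateCol_sum]
      simpa using hk
  let g₁ : GL (Fin (m + 1)) F := Matrix.nonsingInvUnit M₁ hM₁det
  have hg₁0 : M₁ *ᵥ Pi.single 0 1 = a := by
    ext j
    simp [M₁]
  set φ' := φ ᵥ* M₁ with hφ'def
  have hφ'0 : φ' 0 = 0 := by
    have : φ' ⬝ᵥ Pi.single 0 1 = 0 := by rw [hφ'def, ← Matrix.dotProduct_mulVec, hg₁0, h]
    simpa using this
  have hφ'ne : φ' ≠ 0 := by
    intro h0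
    have := congrArg (fun v => v ᵥ* (g₁⁻¹ : GL (Fin (m + 1)) F).val) h0
    simp only [hφ'def, Matrix.vecMul_vecMul, Matrix.zero_vecMul] at this
    rw [show M₁ = g₁.val from rfl, Units.mul_inv, Matrix.vecMul_one] at this
    exact hφ this
  obtain ⟨l, hl⟩ := Function.ne_iff.1 hφ'ne
  have hl0 : l ≠ 0 := fun hh => hl (by rw [hh]; exact hφ'0)
  -- a matrix fixing `e₀` whose last row is `φ'`
  let M₂ : Matrix (Fin (m + 1)) (Fin (m + 1)) F :=
    ((1 : Matrix (Fin (m + 1)) (Fin (m + 1)) F).updateRow l φ').submatrix (Equiv.swap (Fin.last m) l) id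
  have hM₂det : IsUnit M₂.det := by
    rw [isUnit_iff_ne_zero]
    simp only [M₂]
    rw [Matrix.det_permute]
    refine mul_ne_zero ?_ ?_
    · rcases Int.units_eq_one_or (Equiv.Perm.sign (Equiv.swap (Fin.last m) l)) with h | h <;> simp [h]
    · rw [show φ' = (∑ i, φ' i • (1 : Matrix (Fin (m + 1)) (Fin (m + 1)) F) i) by
        ext j; simp [Finset.sum_apply, Matrix.one_apply]]
      rw [Matrix.det_updateRow_sum]
      simpa using hl
  let g₂ : GL (Fin (m + 1)) F := Matrix.nonsingInvUnit M₂ hM₂det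
  have hg₂0 : M₂ *ᵥ Pi.single 0 1 = Pi.single 0 1 := by
    ext j
    simp only [Matrix.mulVec_single_one, Matrix.col_apply, M₂, Matrix.submatrix_apply, id]
    have h0last : (0 : Fin (m + 1)) ≠ Fin.last m := by
      simp [Fin.ext_iff]; omega
    rcases eq_or_ne (Equiv.swap (Fin.last m) l j) l with hs | hs
    · have hj : j = Fin.last m := (Equiv.swap (Fin.last m) l).injective (by rw [hs, Equiv.swap_apply_left])
      rw [hs, Matrix.updateRow_self, hφ'0, hj, Pi.single_eq_of_ne h0last.symm]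
    · rw [Matrix.updateRow_ne hs, Matrix.one_apply, Pi.single_apply]
      congr 1
      rw [eq_iff_iff, Equiv.swap_apply_eq_iff]
      constructor
      · intro hh; rwa [Equiv.swap_apply_of_ne_of_ne h0last (Ne.symm hl0)] at hh
      · intro hh; rwa [Equiv.swap_apply_of_ne_of_ne h0last (Ne.symm hl0)]
  have hg₂row : Pi.single (Fin.last m) 1 ᵥ* M₂ = φ' := by
    ext j
    simp [M₂]
  let g₀ : GL (Fin (m + 1)) F := g₁ * g₂⁻¹
  have hg₀e : g₀.val *ᵥ Pi.single 0 1 = a := by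
    have : (g₂⁻¹ : GL (Fin (m + 1)) F).val *ᵥ Pi.single 0 1 = Pi.single 0 1 := by
      conv_lhs => rw [← hg₂0]
      rw [Matrix.mulVec_mulVec, show M₂ = g₂.val from rfl, Units.inv_mul, Matrix.one_mulVec]
    rw [Units.val_mul, ← Matrix.mulVec_mulVec, this]
    exact hg₁0
  have hg₀φ : Pi.single (Fin.last m) 1 ᵥ* (g₀⁻¹ : GL (Fin (m + 1)) F).val = φ := by
    have e : g₀⁻¹ = g₂ * g₁⁻¹ := by simp [g₀]
    rw [e, Units.val_mul, ← Matrix.vecMul_vecMul, show g₂.val = M₂ from rfl, hg₂row, hφ'def,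
      Matrix.vecMul_vecMul, show M₁ = g₁.val from rfl, Units.mul_inv, Matrix.vecMul_one]
  -- adjust the determinant
  let d : F := g₀.val.det
  have hd : d ≠ 0 := ((Matrix.isUnit_iff_isUnit_det _).1 g₀.isUnit).ne_zero
  let D : Matrix (Fin (m + 1)) (Fin (m + 1)) F := Matrix.diagonal (Function.update (fun _ => (1 : F)) 0 d⁻¹)
  let D' : Matrix (Fin (m + 1)) (Fin (m + 1)) F := Matrix.diagonal (Function.update (fun _ => (1 : F)) 0 d)
  have hDD : D * D' = 1 := by
    simp only [D, D', Matrix.diagonal_mul_diagonal]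
    rw [← Matrix.diagonal_one]
    congr 1
    ext i
    rcases eq_or_ne i 0 with rfl | hi <;> simp [*]
  let g : Matrix.SpecialLinearGroup (Fin (m + 1)) F := ⟨g₀.val * D, by
    rw [Matrix.det_mul, Matrix.det_diagonal, Finset.prod_update_of_mem (Finset.mem_univ _)]
    simp [d, hd, mul_inv_cancel₀]⟩
  have hginv : (g⁻¹ : Matrix.SpecialLinearGroup (Fin (m + 1)) F).1 = D' * (g₀⁻¹ : GL (Fin (m + 1)) F).val := by
    have h1 : g₀.val * D * (D' * (g₀⁻¹ : GL (Fin (m + 1)) F).val) = 1 := by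
      rw [Matrix.mul_assoc, ← Matrix.mul_assoc D, hDD, Matrix.one_mul, Units.mul_inv]
    exact left_inv_eq_right_inv ((Matrix.SpecialLinearGroup.coe_mul g⁻¹ g).symm.trans
      (by rw [inv_mul_cancel]; rfl)) h1
  refine ⟨g, ⟨d, hd, ?_⟩, ?_⟩
  · rw [← hg₀e, show g.1 = g₀.val * D from rfl, ← Matrix.mulVec_mulVec]
    have : D *ᵥ Pi.single 0 1 = d⁻¹ • Pi.single 0 1 := by
      ext i
      rw [Matrix.mulVec_diagonal]
      rcases eq_or_ne i 0 with rfl | hi <;> simp [*]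
    rw [this, Matrix.mulVec_smul, smul_smul, mul_inv_cancel₀ hd, one_smul]
  · refine ⟨1, one_ne_zero, ?_⟩
    have hne : Fin.last m ≠ (0 : Fin (m + 1)) := by simp [Fin.ext_iff]; omega
    have : Pi.single (Fin.last m) 1 ᵥ* D' = Pi.single (Fin.last m) 1 := by
      ext i
      rw [Matrix.vecMul_diagonal]
      rcases eq_or_ne i 0 with rfl | hi <;> simp [*, Pi.single_apply, Ne.symm hne]
    rw [one_smul, hginv, ← Matrix.vecMul_vecMul, this, hg₀φ]

section Finite

variable [Fintype F]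

theorem scalar_pow_p {p : ℕ} [Fact p.Prime] [CharP F p] {z : F} (h : z ^ p = 1) : z = 1 := by
  have : (z - 1) ^ p = 0 := by rw [sub_pow_char, h, one_pow, sub_self]
  exact sub_eq_zero.1 (pow_eq_zero_iff (Fact.out : p.Prime).ne_zero |>.1 this)

theorem one_add_pow {A : Matrix (Fin n) (Fin n) F} (hA : A * A = 0) (k : ℕ) : (1 + A) ^ k = 1 + (k : F) • A := by
  induction k with
  | zero => simp
  | succ k ih =>
    rw [pow_succ, ih, add_mul, one_mul, Matrix.smul_mul, mul_add, mul_one, hA, add_zero, Nat.cast_succ, add_smul,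
      one_smul]
    abel

/-- Square-zero unipotents that agree up to a scalar are equal. -/
theorem eq_of_smul {A B : Matrix (Fin n) (Fin n) F} (hA : A * A = 0) (hB : B * B = 0) {z : F}
    (h : 1 + A = z • (1 + B)) : A = B := by
  rcases Nat.eq_zero_or_pos n with hn | hn
  · subst hn; ext i; exact i.elim0
  obtain ⟨p, hp⟩ := CharP.exists F
  obtain ⟨_, hpp, -⟩ := FiniteField.card F p
  haveI : Fact p.Prime := ⟨hpp⟩
  have h' := congrArg (fun M => M ^ p) h
  simp only [smul_pow, one_add_pow hA, one_add_pow hB, CharP.cast_eq_zero, zero_smul, add_zero] at h'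
  have hz : z ^ p = 1 := by
    have := congrFun (congrFun h' ⟨0, hn⟩) ⟨0, hn⟩
    simpa using this.symm
  rw [scalar_pow_p hz, one_smul] at h
  exact add_left_cancel h

theorem tv_sq {a φ : Fin n → F} (h : φ ⬝ᵥ a = 0) : vecMulVec a φ * vecMulVec a φ = 0 := by
  rw [vecMulVec_mul_vecMulVec', h, zero_smul]

omit [Fintype F] in
theorem exists_smul_of_mk_eq {g h : SLn} (he : (QuotientGroup.mk g : PSLn) = QuotientGroup.mk h) :
    ∃ z : F, g.1 = z • h.1 := by
  obtain ⟨z, hz, hzg⟩ : ∃ z ∈ Subgroup.center SLn, g = z * h := by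
    refine ⟨g * h⁻¹, ?_, (inv_mul_cancel_right g h).symm⟩
    have h1 := QuotientGroup.eq.1 he.symm
    have h2 := (Subgroup.mem_center_iff.1 h1 h)
    have : g * h⁻¹ = h⁻¹ * g := by
      calc g * h⁻¹ = (h * (h⁻¹ * g)) * h⁻¹ := by group
        _ = (h⁻¹ * g * h) * h⁻¹ := by rw [h2]
        _ = h⁻¹ * g := by group
    rw [this]
    exact h1
  obtain ⟨r, -, hr⟩ := Matrix.SpecialLinearGroup.mem_center_iff.1 hz
  refine ⟨r, ?_⟩
  rw [hzg, Matrix.SpecialLinearGroup.coe_mul, ← hr, Matrix.smul_eq_diagonal_mul]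
  rfl

theorem mk_tv_inj {a φ b ψ : Fin n → F} {h : φ ⬝ᵥ a = 0} {h' : ψ ⬝ᵥ b = 0}
    (he : (QuotientGroup.mk (tv a φ h) : PSLn) = QuotientGroup.mk (tv b ψ h')) :
    vecMulVec a φ = vecMulVec b ψ := by
  obtain ⟨z, hz⟩ := exists_smul_of_mk_eq he
  exact eq_of_smul (tv_sq h) (tv_sq h') hz

theorem mk_tv_eq_one {a φ : Fin n → F} {h : φ ⬝ᵥ a = 0}
    (he : (QuotientGroup.mk (tv a φ h) : PSLn) = 1) : vecMulVec a φ = 0 := by
  have h0 : φ ⬝ᵥ ((0 : F) • a) = 0 := dot_smul_zero h 0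
  have := mk_tv_inj (h' := h0) (he.trans (by
    rw [show tv ((0 : F) • a) φ h0 = 1 from Subtype.ext (by simp [tv_coe])]; rfl))
  simpa using this

theorem rootHom_injective {a φ : Fin n → F} (ha : a ≠ 0) (hφ : φ ≠ 0) (h : φ ⬝ᵥ a = 0) :
    Function.Injective (rootHom a φ h) := by
  intro s t hst
  have := mk_tv_inj hst
  rw [Matrix.smul_vecMulVec, Matrix.smul_vecMulVec] at this
  exact smul_left_injective F (fun h0 => (Matrix.vecMulVec_ne_zero ha hφ) h0) this

theorem root_inj {a φ b ψ : Fin n → F} (ha : a ≠ 0) (hφ : φ ≠ 0) {h : φ ⬝ᵥ a = 0} {h' : ψ ⬝ᵥ b = 0}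
    (he : root a φ h = root b ψ h') : Par a b ∧ Par φ ψ := by
  have hm : rootHom a φ h (Multiplicative.ofAdd 1) ∈ root b ψ h' := by rw [← he]; exact ⟨_, rfl⟩
  obtain ⟨t, ht⟩ := hm
  have := mk_tv_inj ht.symm
  rw [toAdd_ofAdd, one_smul] at this
  obtain ⟨h1, h2⟩ := par_of_eq ha hφ this
  have ht0 : t.toAdd ≠ 0 := fun h0 => h1.ne_zero ha (by rw [h0, zero_smul])
  exact ⟨h1.trans (Par.symm ⟨_, ht0, rfl⟩), h2⟩

/-- Some non-trivial commuting elements of the two groups have their product in a transvection group. -/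
def Sh (R₁ R₂ : Subgroup PSLn) : Prop :=
  ∃ x ∈ R₁, ∃ y ∈ R₂, x ≠ 1 ∧ y ≠ 1 ∧ x * y = y * x ∧ ∃ R, IsRoot R ∧ x * y ∈ R

theorem sh_of_par {a φ b ψ : Fin n → F} (ha : a ≠ 0) (hφ : φ ≠ 0) (hb : b ≠ 0) (hψ : ψ ≠ 0)
    (h : φ ⬝ᵥ a = 0) (h' : ψ ⬝ᵥ b = 0) (hp : Par a b ∨ Par φ ψ) : Sh (root a φ h) (root b ψ h') := by
  rcases hp with hp | hp
  · have h'' : ψ ⬝ᵥ a = 0 := Par.dot_eq_zero (Par.refl ψ) hp.symm h'
    rw [← root_congr h'' h' hp (Par.refl ψ)]
    refine ⟨rootHom a φ h (Multiplicative.ofAdd 1), ⟨_, rfl⟩, rootHom a ψ h'' (Multiplicative.ofAdd 1), ⟨_, rfl⟩,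
      fun e => ?_, fun e => ?_, ?_, ?_⟩
    · exact one_ne_zero (α := F) (Multiplicative.ofAdd.injective (rootHom_injective ha hφ h (e.trans (map_one _).symm)))
    · exact one_ne_zero (α := F) (Multiplicative.ofAdd.injective (rootHom_injective ha hψ h'' (e.trans (map_one _).symm)))
    all_goals simp only [rootHom_apply, ← QuotientGroup.mk_mul]
    · refine congrArg _ (Subtype.ext ?_)
      simp [tv_coe, mul_add, add_mul, vecMulVec_mul_vecMulVec', h, h'']
      abel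
    · by_cases h0 : φ + ψ = 0
      · refine ⟨root a φ h, ⟨a, φ, h, ha, hφ, rfl⟩, ?_⟩
        convert Subgroup.one_mem (root a φ h)
        refine (congrArg _ (Subtype.ext ?_)).trans (QuotientGroup.mk_one _)
        simp [tv_coe, mul_add, add_mul, vecMulVec_mul_vecMulVec', h'', add_assoc,
          ← Matrix.vecMulVec_add, add_comm ψ φ, h0, h]
      · have h3 : (φ + ψ) ⬝ᵥ a = 0 := by rw [add_dotProduct, h, h'', add_zero]
        refine ⟨root a (φ + ψ) h3, ⟨a, φ + ψ, h3, ha, h0, rfl⟩, Multiplicative.ofAdd 1, ?_⟩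
        refine congrArg _ (Subtype.ext ?_)
        simp [tv_coe, mul_add, add_mul, vecMulVec_mul_vecMulVec', h'', add_assoc, Matrix.vecMulVec_add, h]
  · have h'' : φ ⬝ᵥ b = 0 := Par.dot_eq_zero hp.symm (Par.refl b) h'
    rw [← root_congr h'' h' (Par.refl b) hp]
    refine ⟨rootHom a φ h (Multiplicative.ofAdd 1), ⟨_, rfl⟩, rootHom b φ h'' (Multiplicative.ofAdd 1), ⟨_, rfl⟩,
      fun e => ?_, fun e => ?_, ?_, ?_⟩
    · exact one_ne_zero (α := F) (Multiplicative.ofAdd.injective (rootHom_injective ha hφ h (e.trans (map_one _).symm)))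
    · exact one_ne_zero (α := F) (Multiplicative.ofAdd.injective (rootHom_injective hb hφ h'' (e.trans (map_one _).symm)))
    all_goals simp only [rootHom_apply, ← QuotientGroup.mk_mul]
    · refine congrArg _ (Subtype.ext ?_)
      simp [tv_coe, mul_add, add_mul, vecMulVec_mul_vecMulVec', h, h'']
      abel
    · by_cases h0 : a + b = 0
      · refine ⟨root a φ h, ⟨a, φ, h, ha, hφ, rfl⟩, ?_⟩
        convert Subgroup.one_mem (root a φ h)
        refine (congrArg _ (Subtype.ext ?_)).trans (QuotientGroup.mk_one _)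
        simp [tv_coe, mul_add, add_mul, vecMulVec_mul_vecMulVec', h'', add_assoc,
          ← Matrix.add_vecMulVec, add_comm b a, h0, h]
      · have h3 : φ ⬝ᵥ (a + b) = 0 := by rw [dotProduct_add, h, h'', add_zero]
        refine ⟨root (a + b) φ h3, ⟨a + b, φ, h3, h0, hφ, rfl⟩, Multiplicative.ofAdd 1, ?_⟩
        refine congrArg _ (Subtype.ext ?_)
        simp [tv_coe, mul_add, add_mul, vecMulVec_mul_vecMulVec', h'', add_assoc, Matrix.add_vecMulVec, h]

theorem par_of_sh {a φ b ψ : Fin n → F} (ha : a ≠ 0) (hφ : φ ≠ 0) (hb : b ≠ 0) (hψ : ψ ≠ 0)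
    (h : φ ⬝ᵥ a = 0) (h' : ψ ⬝ᵥ b = 0) (hs : Sh (root a φ h) (root b ψ h')) : Par a b ∨ Par φ ψ := by
  obtain ⟨_, ⟨s, rfl⟩, _, ⟨t, rfl⟩, hs1, ht1, hcomm, R, ⟨c, θ, hc, -, -, rfl⟩, u, hu⟩ := hs
  rw [← ofAdd_toAdd s, ← ofAdd_toAdd t, rootHom_apply, rootHom_apply, ← QuotientGroup.mk_mul,
    ← QuotientGroup.mk_mul] at hcomm
  rw [← ofAdd_toAdd s, ← ofAdd_toAdd t, ← ofAdd_toAdd u, rootHom_apply, rootHom_apply, rootHom_apply,
    ← QuotientGroup.mk_mul] at hu
  have hs0 : s.toAdd ≠ 0 := fun e => hs1 (by rw [← ofAdd_toAdd s, e, ofAdd_zero, map_one])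
  have ht0 : t.toAdd ≠ 0 := fun e => ht1 (by rw [← ofAdd_toAdd t, e, ofAdd_zero, map_one])
  have hA := tv_sq (dot_smul_zero h s.toAdd)
  have hB := tv_sq (dot_smul_zero h' t.toAdd)
  have hC := tv_sq (dot_smul_zero hc u.toAdd)
  have hadd : ∀ A B : Matrix (Fin n) (Fin n) F, A * B = B * A → A * A = 0 → B * B = 0 →
      A * B = 0 → (1 + A) * (1 + B) = 1 + (A + B) ∧ (A + B) * (A + B) = 0 := by
    intro A B hAB hA2 hB2 h0
    constructor
    · rw [add_mul, one_mul, mul_add, mul_one, h0]; abel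
    · rw [add_mul, mul_add, mul_add, hA2, hB2, ← hAB, h0]; simp
  set a' := s.toAdd • a
  set b' := t.toAdd • b
  obtain ⟨z, hz⟩ := exists_smul_of_mk_eq hcomm
  -- the commutator scalar is one
  have hAB : vecMulVec a' φ * vecMulVec b' ψ = vecMulVec b' ψ * vecMulVec a' φ := by
    rw [Matrix.SpecialLinearGroup.coe_mul, Matrix.SpecialLinearGroup.coe_mul, tv_coe, tv_coe] at hz
    obtain ⟨p, hp⟩ := CharP.exists F
    obtain ⟨_, hpp, -⟩ := FiniteField.card F p
    haveI : Fact p.Prime := ⟨hpp⟩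
    rcases Nat.eq_zero_or_pos n with hn | hn
    · subst hn; ext i; exact i.elim0
    set X : Matrix (Fin n) (Fin n) F := 1 + vecMulVec a' φ
    set Y : Matrix (Fin n) (Fin n) F := 1 + vecMulVec b' ψ
    set X' : Matrix (Fin n) (Fin n) F := 1 - vecMulVec a' φ
    have hXX : X * X' = 1 := by simp [X, X', add_mul, mul_sub, hA]
    have hX'X : X' * X = 1 := by simp [X, X', sub_mul, mul_add, hA]
    have hconj : X * Y * X' = z • Y := by
      rw [hz, Matrix.smul_mul, Matrix.mul_assoc, hXX, Matrix.mul_one]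
    have hp' : ∀ k : ℕ, (X * Y * X') ^ k = X * Y ^ k * X' := by
      intro k
      induction k with
      | zero => simp [hXX]
      | succ k ih =>
        rw [pow_succ, ih, pow_succ]
        simp only [Matrix.mul_assoc]
        rw [← Matrix.mul_assoc X' X, hX'X, Matrix.one_mul]
    have h1 := hp' p
    rw [hconj, smul_pow, show Y ^ p = 1 + (p : F) • vecMulVec b' ψ from one_add_pow hB p, CharP.cast_eq_zero,
      zero_smul, add_zero, Matrix.mul_one, hXX] at h1
    have hzp : z ^ p = 1 := by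
      have := congrFun (congrFun h1 ⟨0, hn⟩) ⟨0, hn⟩
      simpa using this
    rw [scalar_pow_p hzp, one_smul] at hz
    simp only [X, Y, add_mul, mul_add, one_mul, mul_one] at hz
    have := sub_eq_zero.2 hz
    rw [← sub_eq_zero]
    rw [← this]
    abel
  have hAB0 : vecMulVec a' φ * vecMulVec b' ψ = 0 := by
    by_contra hne
    have ha' : a' ≠ 0 := smul_ne_zero hs0 ha
    rw [vecMulVec_mul_vecMulVec', vecMulVec_mul_vecMulVec', ← Matrix.smul_vecMulVec,
      ← Matrix.smul_vecMulVec] at hAB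
    rw [vecMulVec_mul_vecMulVec', ← Matrix.smul_vecMulVec] at hne
    have hne' : (φ ⬝ᵥ b') • a' ≠ 0 := fun e => hne (by rw [e]; simp)
    obtain ⟨h1, -⟩ := par_of_eq hne' hψ hAB
    have hne2 : (ψ ⬝ᵥ a') • b' ≠ 0 := h1.ne_zero hne'
    have hφb : φ ⬝ᵥ b' ≠ 0 := (smul_ne_zero_iff.1 hne').1
    have hψa : ψ ⬝ᵥ a' ≠ 0 := (smul_ne_zero_iff.1 hne2).1
    have hpab : Par a' b' := (Par.trans ⟨_, hφb, rfl⟩ h1).trans (Par.symm ⟨_, hψa, rfl⟩)
    exact hφb (Par.dot_eq_zero (Par.refl φ) hpab (dot_smul_zero h _))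
  obtain ⟨h12, h12'⟩ := hadd _ _ hAB hA hB hAB0
  obtain ⟨w, hw⟩ := exists_smul_of_mk_eq hu.symm
  rw [Matrix.SpecialLinearGroup.coe_mul, tv_coe, tv_coe, tv_coe, h12] at hw
  have hsum := eq_of_smul h12' hC hw
  rcases par_of_add_eq (smul_ne_zero hs0 ha) hφ (smul_ne_zero ht0 hb) hψ hsum with hh | hh
  · exact Or.inl ((Par.trans ⟨_, hs0, rfl⟩ hh).trans (Par.symm ⟨_, ht0, rfl⟩))
  · exact Or.inr hh

/-! ### The centre of the unitriangular Sylow subgroup -/

theorem isRoot_map_conj {R : Subgroup PSLn} (hR : IsRoot R) (g : GL (Fin n) F) :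
    IsRoot (R.map (conjP g : PSLn ≃* PSLn).toMonoidHom) := by
  obtain ⟨a, φ, h, ha, hφ, rfl⟩ := hR
  refine ⟨_, _, dot_conj g h, fun e => ha ?_, fun e => hφ ?_, map_conjP_root g h⟩
  · have := congrArg (fun v => ((g⁻¹ : GL (Fin n) F) : Matrix (Fin n) (Fin n) F) *ᵥ v) e
    simpa [Matrix.mulVec_mulVec] using this
  · have := congrArg (fun v => v ᵥ* (g : Matrix (Fin n) (Fin n) F)) e
    simpa [Matrix.vecMul_vecMul] using this

end Finite

end Cfsg.Agent.AutPSL
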